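import Cfsg.Agent.KFacts.CoTwo.Base
import Cfsg.Agent.SporadicStructure.MinShapes
import Cfsg.Agent.Co2Type.Co2El
set_option linter.all false

-- merged: Cfsg.Agent.KFacts.CoTwo.MPerf
section

/-!
# The centraliser `P` of the central involution of `Spor.Co2`; its monomial part is in `⁅P, P⁆` (helper902)

`mono_mem`: an element of `P` fixing `8 e_∞` is in `⁅P, P⁆`.
-/

set_option autoImplicit false
set_option linter.dupNamespace false

namespace Cfsg.Agent.KFacts.CoTwo.MPerf

open Cfsg Cfsg.Agent.SporadicA.GolayBase Cfsg.Agent.SporadicA.GolayPerm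
open Cfsg.Agent.SporadicStructure.M24El Cfsg.Agent.SporadicA.Co0Mono
open Cfsg.Agent.Co2Type.Mono Cfsg.Agent.Co2Type.TGroup Cfsg.Agent.Co2Type.TData Cfsg.Agent.Co2Type.FactsD
open Cfsg.Agent.Co2Type.TCard
open Cfsg.Agent.SporadicStructure.Co0Base (e8 e8_coe)
open Cfsg.Agent.KFacts.CoTwo.Base Cfsg.Agent.KFacts.CoTwo.Data
open scoped Pointwise commutatorElement

/-- The centraliser of the central involution. -/
def P : Subgroup Spor.Co2 := Subgroup.centralizer {ge mz}

theorem mem_P {g : Spor.Co2} : g ∈ P ↔ g * ge mz = ge mz * g := Subgroup.mem_centralizer_singleton_iff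

theorem mo2_mem_P {m Q : ℕ} (hm : inE m = true) (hQ : okP Q = true) (hlt : Q < 2 ^ 120) :
    mo2 m Q ∈ P ↔ pimg Q mz = mz := by
  rw [mem_P]
  exact comm_E_iff hm iz hQ hlt

theorem ge_mem_P {m : ℕ} (hm : inE m = true) : ge m ∈ P :=
  (mo2_mem_P hm okP_idP idP_lt).2 (by decide +kernel)

theorem T_le_P : T ≤ P := fun t ht => mem_P.2 (z_comm t ht)

/-- the commutator subgroup of `P` -/
def D : Subgroup Spor.Co2 := ⁅P, P⁆

theorem comm_mem_D {x y : Spor.Co2} (hx : x ∈ P) (hy : y ∈ P) : ⁅x, y⁆ ∈ D := Subgroup.commutator_mem_commutator hx hy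

theorem D_le : D ≤ P := Subgroup.commutator_le_self P

theorem D_conj {g d : Spor.Co2} (hg : g ∈ P) (hd : d ∈ D) : g * d * g⁻¹ ∈ D := by
  have h1 : ⁅g, d⁆ ∈ D := comm_mem_D hg (D_le hd)
  have h2 := D.mul_mem h1 hd
  rw [commutatorElement_def, inv_mul_cancel_right] at h2
  exact h2

theorem D_conj_iff {g d : Spor.Co2} (hg : g ∈ P) : g * d * g⁻¹ ∈ D ↔ d ∈ D := by
  constructor
  · intro h
    have := D_conj (P.inv_mem hg) h
    have e : g⁻¹ * (g * d * g⁻¹) * g⁻¹⁻¹ = d := by group
    rwa [e] at this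
  · exact D_conj hg

/-! ### masks -/

theorem mem_of_sp {H : Subgroup Spor.Co2} : ∀ {l : List ℕ}, (∀ b ∈ l, inE b = true ∧ ge b ∈ H) →
    ∀ {m : ℕ}, inE m = true → Sp l m → ge m ∈ H := by
  intro l
  induction l with
  | nil =>
    intro _ m _ h
    have h' : m = 0 := h
    rw [h', ge_zero]; exact H.one_mem
  | cons b l ih =>
    intro hl m hm h
    obtain ⟨hb, hb'⟩ := hl b List.mem_cons_self
    rcases h with h | h
    · exact ih (fun c hc => hl c (List.mem_cons_of_mem _ hc)) hm h
    · have h1 := ih (fun c hc => hl c (List.mem_cons_of_mem _ hc)) (inE_xor hm hb) h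
      have h2 := H.mul_mem h1 hb'
      rw [ge_mul (inE_xor hm hb) hb, Nat.xor_assoc, Nat.xor_self, Nat.xor_zero] at h2
      exact h2

/-- `[ge n, π_Q] = ge (n + Q n)` -/
theorem comm_ge {n Q : ℕ} (hn : inE n = true) (hQ : okP Q = true) (hlt : Q < 2 ^ 120) :
    ⁅ge n, mo2 0 Q⁆ = ge (n ^^^ pimg Q n) := by
  have h1 : mo2 0 Q * ge n * (mo2 0 Q)⁻¹ = ge (pimg Q n) := conj_ge hQ hlt hn rfl
  rw [← ge_mul hn (inE_pimg hQ hn), ← h1, commutatorElement_def]
  have h2 : (ge n)⁻¹ = ge n := inv_eq_of_mul_eq_one_left (ge_sq hn)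
  rw [h2]; group

/-- test -/
def enB (t : ℕ × ℕ × ℕ) : Bool :=
  inE t.2.1 && okP t.2.2 && Nat.blt t.2.2 (2 ^ 120) && Nat.beq (pimg t.2.2 mz) mz &&
    Nat.beq (Nat.xor t.2.1 (pimg t.2.2 t.2.1)) t.1

theorem chkEN : EN.all enB = true := by decide +kernel

theorem EN_fst : EN.map (fun t => t.1) = B10 := by decide +kernel

theorem chkB : (B10.all inE) = true := by decide +kernel

theorem ge_mem_D {m : ℕ} (hm : inE m = true) : ge m ∈ D := by
  refine mem_of_sp (l := B10) (fun b hb => ⟨List.all_eq_true.1 chkB b hb, ?_⟩) hm (sp_B10 hm)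
  rw [← EN_fst] at hb
  obtain ⟨t, ht, rfl⟩ := List.mem_map.1 hb
  have h := List.all_eq_true.1 chkEN t ht
  unfold enB at h
  simp only [Bool.and_eq_true] at h
  obtain ⟨⟨⟨⟨h1, h2⟩, h3⟩, h4⟩, h5⟩ := h
  rw [Nat.blt_eq] at h3
  have h6 := comm_ge h1 h2 h3
  have h7 : t.2.1 ^^^ pimg t.2.2 t.2.1 = t.1 := Nat.eq_of_beq_eq_true h5
  rw [h7] at h6
  rw [← h6]
  exact comm_mem_D (ge_mem_P h1) ((mo2_mem_P inE_zero h2 h3).2 (Nat.eq_of_beq_eq_true h4))

/-! ### permutations -/

theorem pimg_mO_iff {Q : ℕ} (hQ : isPerm Q = true) : pimg Q mO = mO ↔ pimg Q mz = mz := by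
  have h1 : pimg Q 16777215 = 16777215 := Nat.eq_of_beq_eq_true hQ
  have e1 : (16777215 : ℕ) ^^^ mO = mz := by decide
  have e2 : (16777215 : ℕ) ^^^ mz = mO := by decide
  constructor
  · intro h
    rw [← e1, pimg_xor hQ, h1, h]
  · intro h
    rw [← e2, pimg_xor hQ, h1, h]

theorem fx_pimg {l : List ℕ} {Q : ℕ} (hQ : ok Q = true) (h : Fx l (el Q)) : pimg Q mO = mO := by
  have hp := (ok_iff.1 hQ).1
  apply fin_injective (pimg_lt hp _) (by decide)
  rw [← smul_fin hp]
  apply Finset.eq_of_subset_of_card_le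
  · intro p hp'
    rw [smul_finset_eq_map, Finset.mem_map] at hp'
    obtain ⟨q, hq, rfl⟩ := hp'
    have := h.1 q hq
    rw [coe_el hQ] at this
    exact this
  · rw [Finset.card_smul_finset]

theorem exists_packed {σ : M24} (h : Fx [0, 23] σ) : ∃ Q, okP Q = true ∧ Q < 2 ^ 120 ∧ papp Q 0 = 0 ∧
    papp Q 23 = 23 ∧ pimg Q mz = mz ∧ el Q = σ := by
  obtain ⟨Q, hQ, hlt, rfl⟩ := exists_el σ
  have hp := (ok_iff.1 hQ).1
  have key : ∀ i ∈ [0, 23], papp Q i = i := by
    intro i hi
    have hi' : i < 24 := by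
      simp only [List.mem_cons, List.not_mem_nil, or_false] at hi
      omega
    have h1 := congrArg idx (h.2 i hi)
    rwa [coe_el hQ, idx_permOf, idx_pt hi'] at h1
  have h0 := key 0 (by simp)
  have h23 := key 23 (by simp)
  exact ⟨Q, okP_iff.2 ⟨hQ, Or.inl ⟨h0, h23⟩⟩, hlt, h0, h23, (pimg_mO_iff hp).1 (fx_pimg hQ h), rfl⟩

/-- the permutations in `D` -/
noncomputable def HD : Subgroup M24 := (D.map toCo0).comap permCo0

theorem mo_zero {Q : ℕ} : mo 0 Q = permCo0 (el Q) := by
  unfold mo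
  rw [cd_zero, signCo0_zero, one_mul]

theorem toCo0_perm {Q : ℕ} (hQ : okP Q = true) : toCo0 (mo2 0 Q) = permCo0 (el Q) := by
  rw [toCo0_mo2 inE_zero hQ, mo_zero]

theorem comm_mem_HD (σ τ : M24) (h1 : Fx [0, 23] σ) (h2 : Fx [0, 23] τ) : ⁅σ, τ⁆ ∈ HD := by
  obtain ⟨Q, hQ, hlt, -, -, hz, rfl⟩ := exists_packed h1
  obtain ⟨R, hR, hlt', -, -, hz', rfl⟩ := exists_packed h2
  refine ⟨⁅mo2 0 Q, mo2 0 R⁆, comm_mem_D ((mo2_mem_P inE_zero hQ hlt).2 hz) ((mo2_mem_P inE_zero hR hlt').2 hz'), ?_⟩
  rw [map_commutatorElement, map_commutatorElement, toCo0_perm hQ, toCo0_perm hR]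

theorem mO_lt : mO < 2 ^ 24 := by decide

/-- possible images of a point of the octad -/
theorem img_mem {l : List ℕ} (hl : ∀ i ∈ l, i < 24) {a : ℕ} (ha : a < 24) (hO : mO.testBit a = true) (hal : a ∉ l)
    {σ : M24} (h : Fx l σ) : idx ((σ : Equiv.Perm GolayPt) (pt a)) ∈
      (List.range 24).filter fun b => mO.testBit b && !(l.contains b) := by
  have h1 : (σ : Equiv.Perm GolayPt) (pt a) ∈ O := h.1 _ (mem_fin.2 (by rw [idx_pt ha]; exact hO))
  rw [List.mem_filter]
  refine ⟨List.mem_range.2 (idx_lt _), ?_⟩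
  rw [Bool.and_eq_true]
  refine ⟨mem_fin.1 h1, ?_⟩
  rw [Bool.not_eq_true', List.contains_eq_mem, decide_eq_false_iff_not]
  intro hc
  have h2 := h.2 _ hc
  rw [pt_idx] at h2
  have h3 := (σ : Equiv.Perm GolayPt).injective h2
  rw [h3, idx_pt ha] at hc
  exact hal hc

/-- possible images of a point outside -/
theorem img_mem' {l : List ℕ} {a : ℕ} (ha : a < 24) (hO : mO.testBit a = false)
    {σ : M24} (h : Fx l σ) : idx ((σ : Equiv.Perm GolayPt) (pt a)) ∈
      (List.range 24).filter fun b => !(mO.testBit b) := by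
  have h1 : (σ : Equiv.Perm GolayPt) (pt a) ∉ O := by
    intro hc
    have h2 := h.inv.1 _ hc
    have h3 : ((σ⁻¹ : M24) : Equiv.Perm GolayPt) ((σ : Equiv.Perm GolayPt) (pt a)) = pt a := by
      show (σ : Equiv.Perm GolayPt).symm _ = _
      rw [Equiv.symm_apply_apply]
    rw [h3] at h2
    have := mem_fin.1 h2
    rw [idx_pt ha, hO] at this
    exact Bool.noConfusion this
  rw [List.mem_filter]
  refine ⟨List.mem_range.2 (idx_lt _), ?_⟩
  rw [Bool.not_eq_true']
  by_contra hc
  rw [Bool.not_eq_false] at hc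
  exact h1 (mem_fin.2 hc)

/-- the last level: six points of the octad and a point outside fixed -/
theorem last (σ : M24) (h : Fx [1, 18, 10, 3, 2, 0, 23] σ) : σ ∈ HD := by
  have h1 : (σ : Equiv.Perm GolayPt) = 1 := by
    refine Cfsg.Agent.SporadicStructure.M24Frame.eq_one_of_fix_frame σ.2 O_mem
      (s := {pt 18, pt 10, pt 3, pt 2, pt 0, pt 23}) ?_ ?_ ?_ (p := pt 1) ?_ (h.2 1 (by simp))
    · unfold O; decide +kernel
    · decide +kernel
    · intro z hz
      simp only [Finset.mem_insert, Finset.mem_singleton] at hz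
      rcases hz with rfl | rfl | rfl | rfl | rfl | rfl
      · exact h.2 18 (by simp)
      · exact h.2 10 (by simp)
      · exact h.2 3 (by simp)
      · exact h.2 2 (by simp)
      · exact h.2 0 (by simp)
      · exact h.2 23 (by simp)
    · unfold O; decide +kernel
  have h2 : σ = 1 := Subtype.ext h1
  rw [h2]; exact HD.one_mem

theorem chk0 : trB [0, 23] [0, 23] 2 ((List.range 24).filter fun b => mO.testBit b && !([0, 23].contains b)) U0 = true := by
  decide +kernel

theorem chk1 : trB [2, 0, 23] [0, 23] 3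
    ((List.range 24).filter fun b => mO.testBit b && !([2, 0, 23].contains b)) U1 = true := by
  decide +kernel

theorem chk2 : trB [3, 2, 0, 23] [0, 23] 10
    ((List.range 24).filter fun b => mO.testBit b && !([3, 2, 0, 23].contains b)) U2 = true := by
  decide +kernel

theorem chk3 : trB [10, 3, 2, 0, 23] [0, 23] 18
    ((List.range 24).filter fun b => mO.testBit b && !([10, 3, 2, 0, 23].contains b)) U3 = true := by
  decide +kernel

theorem chk4 : trB [18, 10, 3, 2, 0, 23] [0, 23] 1
    ((List.range 24).filter fun b => !(mO.testBit b)) U4 = true := by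
  decide +kernel

theorem perm_mem (σ : M24) (h : Fx [0, 23] σ) : permCo0 σ ∈ D.map toCo0 := by
  have hl : ∀ i ∈ [10, 3, 2, 0, 23], i < 24 := by decide
  have l4 : ∀ σ : M24, Fx [18, 10, 3, 2, 0, 23] σ → σ ∈ HD :=
    level comm_mem_HD (by norm_num) chk4 (fun σ h => img_mem' (by norm_num) (by decide) h) last
  have l3 : ∀ σ : M24, Fx [10, 3, 2, 0, 23] σ → σ ∈ HD :=
    level comm_mem_HD (by norm_num) chk3
      (fun σ h => img_mem (by decide) (by norm_num) (by decide) (by decide) h) l4
  have l2 : ∀ σ : M24, Fx [3, 2, 0, 23] σ → σ ∈ HD :=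
    level comm_mem_HD (by norm_num) chk2
      (fun σ h => img_mem (by decide) (by norm_num) (by decide) (by decide) h) l3
  have l1 : ∀ σ : M24, Fx [2, 0, 23] σ → σ ∈ HD :=
    level comm_mem_HD (by norm_num) chk1
      (fun σ h => img_mem (by decide) (by norm_num) (by decide) (by decide) h) l2
  exact level comm_mem_HD (by norm_num) chk0
    (fun σ h => img_mem (by decide) (by norm_num) (by decide) (by decide) h) l1 σ h

/-- **The monomial part of `P` is in the commutator subgroup.** -/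
theorem mono_mem {g : Spor.Co2} (hg : g ∈ P) (h : toCo0 g • e8 none = e8 none) : g ∈ D := by
  obtain ⟨m, Q, hm, hQ, hlt, h0, h23, rfl⟩ := mono_of_fix h
  have hz := (mo2_mem_P hm hQ hlt).1 hg
  have hok := ok_of_okP hQ
  have hF : Fx [0, 23] (el Q) := by
    refine (fx_of (l := [0, 23]) ?_).2
    unfold fxB
    rw [Bool.and_eq_true, Bool.and_eq_true]
    refine ⟨⟨hok, ?_⟩, ?_⟩
    · rw [(pimg_mO_iff (ok_iff.1 hok).1).2 hz]; exact Nat.beq_refl _
    · simp [h0, h23]
  obtain ⟨d, hd, hd'⟩ := perm_mem _ hF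
  have h1 : d = mo2 0 Q := by
    apply toCo0_injective
    rw [hd', toCo0_perm hQ]
  have h2 : mo2 m Q = ge m * mo2 0 Q := by
    unfold ge
    rw [mo2_mul_left hm inE_zero hQ, Nat.xor_zero]
  rw [h2]
  exact D.mul_mem (ge_mem_D hm) (h1 ▸ hd)

end Cfsg.Agent.KFacts.CoTwo.MPerf

end

-- merged: Cfsg.Agent.KFacts.CoTwo.Perf
section

/-!
# The centraliser of the central involution of `Spor.Co2` is perfect (helper902)

`P` acts on the 126 vectors of norm 64 of the form `v + r`, `r` of norm 32 orthogonal to `v` and supported by the octad `O`.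
`commutator_P : ⁅P, P⁆ = P`; `orbit`: the orbit of `8 e_∞` under `P`.
-/

set_option autoImplicit false
set_option linter.dupNamespace false
set_option linter.unusedVariables false

namespace Cfsg.Agent.KFacts.CoTwo.Perf

open Cfsg Cfsg.Agent.SporadicA.GolayBase Cfsg.Agent.SporadicA.GolayPerm
open Cfsg.Agent.SporadicStructure.M24El Cfsg.Agent.SporadicA.Co0Mono
open Cfsg.Agent.Co2Type.Mono Cfsg.Agent.Co2Type.TGroup Cfsg.Agent.Co2Type.TData Cfsg.Agent.Co2Type.FactsD
open Cfsg.Agent.SporadicStructure.Co0Base (e8 e8_coe)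
open Cfsg.Agent.SporadicStructure.LeechBase (zmod2_cases)
open Cfsg.Agent.LeechMat.Elements (vec sdig)
open Cfsg.Agent.LeechMat.Orbit (Rep)
open Cfsg.Agent.KFacts.CoTwo.Base Cfsg.Agent.KFacts.CoTwo.Data Cfsg.Agent.KFacts.CoTwo.MPerf
open scoped Pointwise commutatorElement

/-- image of `8 e_∞` -/
noncomputable def im (g : Spor.Co2) : leechLattice := toCo0 g • e8 none

theorem im_mul (g h : Spor.Co2) : im (g * h) = toCo0 g • im h := by
  unfold im; rw [map_mul, mul_smul]

theorem im_one : im 1 = e8 none := by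
  unfold im; rw [map_one, one_smul]

/-- an element of `P` fixing a vector of the orbit is in `D` -/
theorem fix_mem {x y : Spor.Co2} (hx : x ∈ P) (hy : y ∈ P) (h : toCo0 y • im x = im x) : y ∈ D := by
  have h1 : x⁻¹ * y * x ∈ D := by
    apply mono_mem (P.mul_mem (P.mul_mem (P.inv_mem hx) hy) hx)
    show im (x⁻¹ * y * x) = e8 none
    rw [im_mul, map_mul, mul_smul, h, ← im_mul, inv_mul_cancel, im_one]
  have h2 : x⁻¹ * y * x⁻¹⁻¹ ∈ D := by rwa [inv_inv]
  exact (D_conj_iff (P.inv_mem hx)).1 h2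

/-- codes -/
def wc : ℕ := 0xa421084210842108421084210a5214
/-- codes -/
def wp : ℕ := 0xa4210a521084210842108421084214
/-- codes -/
def c1 : ℕ := 0xa42108421084210852108421083214
/-- codes -/
def d1 : ℕ := 0xb4a1093a108421083a108421074a12
/-- codes -/
def w8 : ℕ := 0xc42108421084210842108421084210
/-- a permutation of the octad, `(2, 3) → (18, 19)` -/
def Q1 : ℕ := 0xbaa0b1d9ee636a5a090649e249c820

theorem vec_w8 : vec w8 = ((e8 none : leechLattice) : GolayPt → ℤ) := by
  have : ∀ p, vec w8 p = (Pi.single none 8 : GolayPt → ℤ) p := by decide +kernel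
  rw [e8_coe]; exact funext this

/-- `π_Q` on coded vectors -/
def permB (Q a b : ℕ) : Bool := (List.range 24).all fun k => decide (sdig b (papp Q k) = sdig a k)

theorem perm_vec {Q a b : ℕ} (hQ : ok Q = true) (h : permB Q a b = true) :
    permMap (el Q) (vec a) = vec b := by
  funext i
  rw [permMap_apply]
  obtain ⟨j, rfl⟩ := (el Q : Equiv.Perm GolayPt).surjective i
  rw [Equiv.symm_apply_apply]
  have h1 := List.all_eq_true.1 h (idx j) (List.mem_range.2 (idx_lt j))
  rw [decide_eq_true_iff] at h1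
  show sdig a (idx j) = sdig b (idx ((el Q : Equiv.Perm GolayPt) j))
  rw [coe_el hQ, idx_permOf, h1]

theorem smul_perm {Q a b : ℕ} (hQ : okP Q = true) (h : permB Q a b = true) {x : leechLattice}
    (hx : (x : GolayPt → ℤ) = vec a) : ((toCo0 (mo2 0 Q) • x : leechLattice) : GolayPt → ℤ) = vec b := by
  rw [toCo0_perm hQ, permCo0_smul, hx, perm_vec (ok_of_okP hQ) h]

/-! ### the element `p` -/

/-- block form of the matrix -/
def blkB : Bool := (List.range 24).all fun j => (List.range 24).all fun i =>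
  decide (sdig (MP.getD j 0) i = 0) || (mz.testBit i == mz.testBit j)

theorem chkBlk : blkB = true := by decide +kernel

/-- the sign of the coordinate `i` under `z` -/
def sg (i : GolayPt) : ℤ := if mz.testBit (idx i) then -1 else 1

theorem z_smul (x : leechLattice) (i : GolayPt) :
    ((toCo0 (ge mz) • x : leechLattice) : GolayPt → ℤ) i = sg i * (x : GolayPt → ℤ) i := by
  unfold ge
  rw [toCo0_mo2 iz okP_idP]
  unfold mo
  rw [el_idP, map_one, mul_one, signCo0_smul, signMap_apply, coe_cd (isCode_of_inE iz), word_apply]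
  unfold sg
  split_ifs
  · rw [sgn_one]
  · rw [sgn_zero]

theorem rep_comm {g : Co0} (hg : Rep 8 MP g) : g * toCo0 (ge mz) = toCo0 (ge mz) * g := by
  obtain ⟨-, -, -, h⟩ := hg
  apply Cfsg.Agent.SporadicA.Co0Mono.ext
  intro x
  apply Subtype.ext
  funext i
  have e1 := congrFun (h (toCo0 (ge mz) • x)) i
  have e2 := congrFun (h x) i
  rw [mul_smul, mul_smul, z_smul]
  have e3 : Cfsg.Agent.LeechMat.Elements.mv MP ((toCo0 (ge mz) • x : leechLattice) : GolayPt → ℤ) i =
      sg i * Cfsg.Agent.LeechMat.Elements.mv MP (x : GolayPt → ℤ) i := by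
    unfold Cfsg.Agent.LeechMat.Elements.mv
    rw [Finset.mul_sum]
    refine Finset.sum_congr rfl fun j _ => ?_
    rw [z_smul]
    have h1 := List.all_eq_true.1 (List.all_eq_true.1 chkBlk (idx j) (List.mem_range.2 (idx_lt j)))
      (idx i) (List.mem_range.2 (idx_lt i))
    rw [Bool.or_eq_true, decide_eq_true_iff, beq_iff_eq] at h1
    rcases h1 with h1 | h1
    · have h2 : vec (MP.getD (Cfsg.Agent.LeechMat.Code.pos j) 0) i = 0 := h1
      rw [h2]; ring
    · unfold sg
      rw [h1]; ring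
  rw [e3, e2] at e1
  have e4 : (8 : ℤ) * ((g • toCo0 (ge mz) • x : leechLattice) : GolayPt → ℤ) i =
      8 * (sg i * ((g • x : leechLattice) : GolayPt → ℤ) i) := by
    have e5 : sg i * (((8 : ℕ) : ℤ) • ((g • x : leechLattice) : GolayPt → ℤ)) i =
        (((8 : ℕ) : ℤ) • ((g • toCo0 (ge mz) • x : leechLattice) : GolayPt → ℤ)) i := e1
    rw [Pi.smul_apply, Pi.smul_apply, smul_eq_mul, smul_eq_mul] at e5
    push_cast at e5
    linarith
  linarith

theorem exists_p : ∃ p : Spor.Co2, p ∈ P ∧ Rep 8 MP (toCo0 p) := by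
  obtain ⟨g, hg⟩ := rep_P
  have hfix : g • Spor.leechU = Spor.leechU :=
    Cfsg.Agent.Co2Type.Co2El.fix_of hg (by decide +kernel)
  refine ⟨⟨g, g.2, hfix⟩, ?_, hg⟩
  rw [mem_P]
  apply toCo0_injective
  rw [map_mul, map_mul]
  exact rep_comm hg

/-- one step of `p` -/
theorem p_step {p : Spor.Co2} (hp : Rep 8 MP (toCo0 p)) {a b : ℕ} (hb : b < 32 ^ 24)
    (h : Cfsg.Agent.LeechMat.Orbit.appc MP a = ((8 : ℕ) : ℤ) * Cfsg.Agent.LeechMat.Orbit.val b) {x : leechLattice}
    (hx : (x : GolayPt → ℤ) = vec a) (hN : sqNorm (x : GolayPt → ℤ) ≤ 225) :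
    ((toCo0 p • x : leechLattice) : GolayPt → ℤ) = vec b := hp.step hx hN hb h

theorem norm_im (g : Spor.Co2) : sqNorm (im g : GolayPt → ℤ) = 64 := by
  unfold im
  rw [Cfsg.Agent.SporadicA.Co0Mono.sqNorm_smul, e8_coe]
  decide +kernel

/-! ### orbit of `8 e_∞` under `D` -/

/-- `x` is in the orbit of `8 e_∞` under `D` -/
def InD (x : GolayPt → ℤ) : Prop := ∃ d ∈ D, (im d : GolayPt → ℤ) = x

theorem InD.mul {x : GolayPt → ℤ} (h : InD x) {g : Co0} (hg : g ∈ D.map toCo0) {y : GolayPt → ℤ}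
    (hy : ∀ v : leechLattice, (v : GolayPt → ℤ) = x → ((g • v : leechLattice) : GolayPt → ℤ) = y) : InD y := by
  obtain ⟨d, hd, h1⟩ := h
  obtain ⟨e, he, rfl⟩ := hg
  exact ⟨e * d, D.mul_mem he hd, by rw [im_mul]; exact hy _ h1⟩

theorem InD.perm {x : GolayPt → ℤ} (h : InD x) {σ : M24} (hσ : Fx [0, 23] σ) : InD (permMap σ x) :=
  h.mul (perm_mem σ hσ) fun v hv => by rw [permCo0_smul, hv]

theorem sign_mem {c : golayCode} (h1 : (c : GolayPt → ZMod 2) none = 0)
    (h2 : (c : GolayPt → ZMod 2) (some 0) = 0) : signCo0 c ∈ D.map toCo0 := by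
  obtain ⟨m, hm, rfl⟩ := exists_cd c
  rw [coe_cd hm, word_apply] at h1 h2
  have e1 : m.testBit 23 = false := by
    by_contra h
    rw [Bool.not_eq_false] at h
    rw [if_pos (show m.testBit (idx none) = true from h)] at h1
    exact absurd h1 (by decide)
  have e2 : m.testBit 0 = false := by
    by_contra h
    rw [Bool.not_eq_false] at h
    rw [if_pos (show m.testBit (idx (some 0)) = true from h)] at h2
    exact absurd h2 (by decide)
  have hE : inE m = true := inE_iff.2 ⟨hm, e2, e1⟩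
  refine ⟨ge m, ge_mem_D hE, ?_⟩
  unfold ge
  rw [toCo0_mo2 hE okP_idP]
  unfold mo
  rw [el_idP, map_one, mul_one]

theorem InD.sign {x : GolayPt → ℤ} (h : InD x) {c : golayCode} (h1 : (c : GolayPt → ZMod 2) none = 0)
    (h2 : (c : GolayPt → ZMod 2) (some 0) = 0) : InD (signMap c x) :=
  h.mul (sign_mem h1 h2) fun v hv => by rw [signCo0_smul, hv]

/-- Change the signs on at most seven points. -/
theorem InD.signs {x : GolayPt → ℤ} (h : InD x) (S : Finset GolayPt) (hS : S.card ≤ 7) (hn : none ∈ S)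
    (h0 : some 0 ∈ S) (y : GolayPt → ℤ) (hx : ∀ i ∈ S, y i = x i ∨ y i = -x i)
    (hyn : y none = x none) (hy0 : y (some 0) = x (some 0)) :
    ∃ u, InD u ∧ (∀ i ∈ S, u i = y i) ∧ ∀ i, u i = x i ∨ u i = -x i := by
  classical
  obtain ⟨w, hw, hwt⟩ := Cfsg.Agent.SporadicStructure.GolayInterp.exists_word_interp S hS
    (fun i => if y i = x i then 0 else 1)
  refine ⟨_, h.sign (c := ⟨w, hw⟩) ?_ ?_, fun i hi => ?_, fun i => ?_⟩
  · show w none = 0
    rw [hwt _ hn, if_pos hyn]
  · show w (some 0) = 0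
    rw [hwt _ h0, if_pos hy0]
  · rw [signMap_apply]
    show sgn (w i) * _ = _
    rw [hwt i hi]
    by_cases h : y i = x i
    · rw [if_pos h, sgn_zero, one_mul, h]
    · rw [if_neg h, sgn_one, (hx i hi).resolve_left h]
      ring
  · rw [signMap_apply]
    show sgn (w i) * _ = _ ∨ sgn (w i) * _ = _
    rcases zmod2_cases (w i) with h | h
    · left; rw [h, sgn_zero, one_mul]
    · right; rw [h, sgn_one]; ring

/-! ### the elements `p` and `s` are in `D` -/

theorem okQ1 : (okP Q1 && Nat.blt Q1 (2 ^ 120) && Nat.beq (pimg Q1 mz) mz && permB Q1 wc wp) = true := by decide +kernel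

theorem oks : (okP sQ && Nat.blt sQ (2 ^ 120) && Nat.beq (pimg sQ mz) mz && permB sQ wc wc) = true := by decide +kernel

theorem p_mem {p : Spor.Co2} (hp : p ∈ P) (hr : Rep 8 MP (toCo0 p)) : p ∈ D ∧ mo2 0 sQ ∈ D ∧
    (im p : GolayPt → ℤ) = vec wc := by
  have e1 : (im p : GolayPt → ℤ) = vec wc :=
    p_step hr (by decide) (by decide +kernel) vec_w8.symm (by rw [e8_coe]; decide +kernel)
  have hQ := okQ1
  simp only [Bool.and_eq_true, Nat.blt_eq] at hQ
  obtain ⟨⟨⟨q1, q2⟩, q3⟩, q4⟩ := hQ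
  have hS := oks
  simp only [Bool.and_eq_true, Nat.blt_eq] at hS
  obtain ⟨⟨⟨s1, s2⟩, s3⟩, s4⟩ := hS
  have hQ1 : mo2 0 Q1 ∈ P := (mo2_mem_P inE_zero q1 q2).2 (Nat.eq_of_beq_eq_true q3)
  have e2 : (im (mo2 0 Q1 * p) : GolayPt → ℤ) = vec wp := by
    rw [im_mul]; exact smul_perm q1 q4 e1
  refine ⟨fix_mem (P.mul_mem hQ1 hp) hp ?_, fix_mem hp ((mo2_mem_P inE_zero s1 s2).2 (Nat.eq_of_beq_eq_true s3)) ?_,
    e1⟩
  · apply Subtype.ext
    rw [e2]
    exact p_step hr (by decide) (by decide +kernel) e2 (by rw [norm_im]; norm_num)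
  · apply Subtype.ext
    rw [e1]
    exact smul_perm s1 s4 e1

theorem inD_wc : InD (vec wc) := by
  obtain ⟨p, hp, hr⟩ := exists_p
  obtain ⟨h1, -, h3⟩ := p_mem hp hr
  exact ⟨p, h1, h3⟩

theorem s_mem : mo2 0 sQ ∈ D := by
  obtain ⟨p, hp, hr⟩ := exists_p
  exact (p_mem hp hr).2.1

/-! ### vectors with two coordinates `±4` outside `∞, 0` -/

/-- the six other points of the octad -/
def O6 : Finset GolayPt := (O.erase none).erase (some 0)

theorem mem_O_iff (i : GolayPt) : i ∈ O ↔ i = none ∨ i = some 0 ∨ i ∈ O6 := by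
  unfold O6
  rw [Finset.mem_erase, Finset.mem_erase]
  by_cases h1 : i = none
  · subst h1
    simp only [true_or, iff_true]
    unfold O; decide +kernel
  · by_cases h2 : i = some 0
    · subst h2
      simp only [true_or, or_true, iff_true]
      unfold O; decide +kernel
    · simp [h1, h2]

theorem none_notMem : none ∉ O6 := by unfold O6; simp

theorem zero_notMem : some 0 ∉ O6 := by unfold O6; simp

theorem four_check : ∀ i ∈ [2, 3, 10, 18, 19, 22], ∀ j ∈ [2, 3, 10, 18, 19, 22], i ≠ j →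
    ∃ k ∈ [2, 3, 10, 18, 19, 22], ∃ l ∈ [2, 3, 10, 18, 19, 22], k ≠ i ∧ k ≠ j ∧ l ≠ i ∧ l ≠ j ∧ k ≠ l := by
  decide

theorem mem_O6_iff (i : GolayPt) : i ∈ O6 ↔ idx i ∈ [2, 3, 10, 18, 19, 22] := by
  revert i
  unfold O6 O
  decide +kernel

theorem exists_two {i j : GolayPt} (hi : i ∈ O6) (hj : j ∈ O6) (hij : i ≠ j) :
    ∃ k ∈ O6, ∃ l ∈ O6, k ≠ i ∧ k ≠ j ∧ l ≠ i ∧ l ≠ j ∧ k ≠ l := by
  rw [mem_O6_iff] at hi hj
  obtain ⟨k, hk, l, hl, h1, h2, h3, h4, h5⟩ := four_check _ hi _ hj (fun h => hij (idx_injective h))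
  have lt : ∀ a ∈ [2, 3, 10, 18, 19, 22], a < 24 := by decide
  refine ⟨pt k, ?_, pt l, ?_, ?_, ?_, ?_, ?_, ?_⟩
  · rw [mem_O6_iff, idx_pt (lt k hk)]; exact hk
  · rw [mem_O6_iff, idx_pt (lt l hl)]; exact hl
  · rintro rfl; exact h1 (idx_pt (lt k hk)).symm
  · rintro rfl; exact h2 (idx_pt (lt k hk)).symm
  · rintro rfl; exact h3 (idx_pt (lt l hl)).symm
  · rintro rfl; exact h4 (idx_pt (lt l hl)).symm
  · intro h
    apply h5
    rw [← idx_pt (lt k hk), h, idx_pt (lt l hl)]

theorem six_inj {a b c d e f : GolayPt} (h : [a, b, c, d, e, f].Nodup) :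
    Function.Injective (![a, b, c, d, e, f] : Fin 6 → GolayPt) := by
  have h1 : (![a, b, c, d, e, f] : Fin 6 → GolayPt) = fun i => [a, b, c, d, e, f].get i := by
    funext i
    fin_cases i <;> rfl
  rw [h1]
  exact List.nodup_iff_injective_get.1 h

/-- an element of the stabiliser mapping `(2, 3)` to `(i, j)` -/
theorem exists_sigma {i j : GolayPt} (hi : i ∈ O6) (hj : j ∈ O6) (hij : i ≠ j) :
    ∃ σ : M24, Fx [0, 23] σ ∧ (σ : Equiv.Perm GolayPt) (some 2) = i ∧ (σ : Equiv.Perm GolayPt) (some 3) = j := by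
  obtain ⟨k, hk, l, hl, h1, h2, h3, h4, h5⟩ := exists_two hi hj hij
  have nn : ∀ x ∈ O6, x ≠ none := fun x hx h => none_notMem (h ▸ hx)
  have n0 : ∀ x ∈ O6, x ≠ some 0 := fun x hx h => zero_notMem (h ▸ hx)
  have hO : ∀ x ∈ O6, x ∈ O := fun x hx => (mem_O_iff x).2 (Or.inr (Or.inr hx))
  have hnO : none ∈ O := (mem_O_iff none).2 (Or.inl rfl)
  have h0O : some 0 ∈ O := (mem_O_iff _).2 (Or.inr (Or.inl rfl))
  obtain ⟨g, ⟨hg, hg1, hg2⟩, -⟩ := Cfsg.Agent.SporadicStructure.M24Frame.exists_unique_frame_map O_mem O_mem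
    (a := ![none, some 0, some 2, some 3, some 10, some 18]) (a' := ![none, some 0, i, j, k, l])
    (six_inj (by decide +kernel))
    (six_inj (by
      simp only [List.nodup_cons, List.mem_cons, List.not_mem_nil, or_false, not_or, List.nodup_nil, not_false_eq_true,
        and_true]
      exact ⟨⟨by decide, (nn i hi).symm, (nn j hj).symm, (nn k hk).symm, (nn l hl).symm⟩,
        ⟨(n0 i hi).symm, (n0 j hj).symm, (n0 k hk).symm, (n0 l hl).symm⟩,
        ⟨hij, h1.symm, h3.symm⟩, ⟨h2.symm, h4.symm⟩, h5⟩))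
    (by intro a; fin_cases a <;> (unfold O; decide +kernel))
    (by
      intro a
      fin_cases a
      · exact hnO
      · exact h0O
      · exact hO i hi
      · exact hO j hj
      · exact hO k hk
      · exact hO l hl)
    (p := some 1) (p' := some 1) (by unfold O; decide +kernel) (by unfold O; decide +kernel)
  have key : g • O = O := by
    refine Cfsg.Agent.SporadicStructure.M24Frame.smul_octad_eq_of_five hg O_mem O_mem
      (s := {none, some 0, some 2, some 3, some 10}) (by unfold O; decide +kernel) (by decide +kernel) ?_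
    intro z hz
    simp only [Finset.mem_insert, Finset.mem_singleton] at hz
    have g0 : g none = none := hg1 0
    have g1 : g (some 0) = some 0 := hg1 1
    have g2 : g (some 2) = i := hg1 2
    have g3 : g (some 3) = j := hg1 3
    have g4 : g (some 10) = k := hg1 4
    rcases hz with rfl | rfl | rfl | rfl | rfl
    · rw [g0]; exact hnO
    · rw [g1]; exact h0O
    · rw [g2]; exact hO i hi
    · rw [g3]; exact hO j hj
    · rw [g4]; exact hO k hk
  refine ⟨⟨g, hg⟩, ⟨fun p hp => ?_, fun a ha => ?_⟩, hg1 2, hg1 3⟩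
  · have : g p ∈ g • O := (mem_smul_iff _ _ _).2 hp
    rwa [key] at this
  · simp only [List.mem_cons, List.not_mem_nil, or_false] at ha
    rcases ha with rfl | rfl
    · exact hg1 1
    · exact hg1 0

theorem vec_wc_apply (i : GolayPt) : vec wc i =
    if i = none ∨ i = some 0 ∨ i = some 2 ∨ i = some 3 then 4 else 0 := by
  revert i; decide +kernel

/-- vectors of the second type are in the orbit -/
theorem inD_c {x : GolayPt → ℤ} {i j : GolayPt} (hi : i ∈ O6) (hj : j ∈ O6) (hij : i ≠ j)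
    (hn : x none = 4) (h0 : x (some 0) = 4) (h1 : x i = 4 ∨ x i = -4) (h2 : x j = 4 ∨ x j = -4)
    (h3 : ∀ k, k ≠ none → k ≠ some 0 → k ≠ i → k ≠ j → x k = 0) : InD x := by
  obtain ⟨σ, hσ, e2, e3⟩ := exists_sigma hi hj hij
  have k1 := inD_wc.perm hσ
  have nn : ∀ x ∈ O6, x ≠ none := fun x hx h => none_notMem (h ▸ hx)
  have n0 : ∀ x ∈ O6, x ≠ some 0 := fun x hx h => zero_notMem (h ▸ hx)
  have hform : ∀ k, permMap σ (vec wc) k =
      if k = none ∨ k = some 0 ∨ k = i ∨ k = j then 4 else 0 := by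
    intro k
    obtain ⟨l, rfl⟩ := (σ : Equiv.Perm GolayPt).surjective k
    rw [permMap_apply, Equiv.symm_apply_apply, vec_wc_apply]
    have en : (σ : Equiv.Perm GolayPt) none = none := hσ.2 23 (by simp)
    have e0 : (σ : Equiv.Perm GolayPt) (some 0) = some 0 := hσ.2 0 (by simp)
    have inj := (σ : Equiv.Perm GolayPt).injective
    have t1 : ((σ : Equiv.Perm GolayPt) l = none) ↔ l = none := by
      constructor
      · intro h; exact inj (h.trans en.symm)
      · rintro rfl; exact en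
    have t2 : ((σ : Equiv.Perm GolayPt) l = some 0) ↔ l = some 0 := by
      constructor
      · intro h; exact inj (h.trans e0.symm)
      · rintro rfl; exact e0
    have t3 : ((σ : Equiv.Perm GolayPt) l = i) ↔ l = some 2 := by
      constructor
      · intro h; exact inj (h.trans e2.symm)
      · rintro rfl; exact e2
    have t4 : ((σ : Equiv.Perm GolayPt) l = j) ↔ l = some 3 := by
      constructor
      · intro h; exact inj (h.trans e3.symm)
      · rintro rfl; exact e3
    simp only [t1, t2, t3, t4]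
  obtain ⟨u, hu, hu1, hu2⟩ := k1.signs {none, some 0, i, j} (Finset.card_le_four.trans (by norm_num)) (by simp) (by simp)
    x (by
      intro k hk
      simp only [Finset.mem_insert, Finset.mem_singleton] at hk
      rw [hform, if_pos hk]
      rcases hk with rfl | rfl | rfl | rfl
      · left; exact hn
      · left; exact h0
      · exact h1
      · exact h2)
    (by rw [hform, if_pos (Or.inl rfl), hn]) (by rw [hform, if_pos (Or.inr (Or.inl rfl)), h0])
  have : u = x := by
    funext k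
    by_cases hk : k = none ∨ k = some 0 ∨ k = i ∨ k = j
    · exact hu1 k (by simpa using hk)
    · have h4 := hu2 k
      rw [hform, if_neg hk] at h4
      push Not at hk
      rw [h3 k hk.1 hk.2.1 hk.2.2.1 hk.2.2.2]
      omega
  rw [← this]; exact hu

/-! ### vectors `(6, 2, (±2)^6)` -/

theorem inD_d1 : InD (vec d1) := by
  obtain ⟨p, hp, hr⟩ := exists_p
  obtain ⟨h1, -, -⟩ := p_mem hp hr
  have hc : InD (vec c1) := by
    refine inD_c (i := some 2) (j := some 10) (by rw [mem_O6_iff]; decide) (by rw [mem_O6_iff]; decide) (by decide)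
      (by decide +kernel) (by decide +kernel) (by decide +kernel) (by decide +kernel) ?_
    decide +kernel
  exact hc.mul ⟨p, h1, rfl⟩ fun v hv => p_step hr (by decide) (by decide +kernel) hv (by rw [hv]; decide +kernel)

theorem not_single4 (i : GolayPt) {a : ℤ} (ha : a = 4 ∨ a = -4) :
    (Pi.single i a : GolayPt → ℤ) ∉ leechLattice := by
  rw [Cfsg.Agent.SporadicStructure.LeechBase.mem_leechLattice_iff_mem_leechSet]
  rintro ⟨m, hm, hsum, -⟩
  obtain ⟨j, hj⟩ : ∃ j, j ≠ i := exists_ne i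
  have h1 := hm j
  rw [Pi.single_eq_of_ne hj] at h1
  have h2 := Cfsg.Agent.CoOneType.CentOctad.sum_single Finset.univ i a
  rw [if_pos (Finset.mem_univ i)] at h2
  rw [h2] at hsum
  unfold Int.ModEq at h1 hsum
  rcases ha with rfl | rfl <;> omega

theorem vec_d1_apply (i : GolayPt) : (i = none → vec d1 i = 6) ∧ (i = some 0 → vec d1 i = 2) ∧
    (i ∈ O6 → vec d1 i = 2 ∨ vec d1 i = -2) ∧ (i ∉ O → vec d1 i = 0) := by
  rw [mem_O6_iff]
  revert i
  unfold O
  decide +kernel

theorem inD_d (v : leechLattice) (hn : (v : GolayPt → ℤ) none = 6) (h0 : (v : GolayPt → ℤ) (some 0) = 2)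
    (h6 : ∀ i ∈ O6, (v : GolayPt → ℤ) i = 2 ∨ (v : GolayPt → ℤ) i = -2)
    (hO : ∀ i, i ∉ O → (v : GolayPt → ℤ) i = 0) : InD (v : GolayPt → ℤ) := by
  have h22 : some 22 ∈ O := by unfold O; decide +kernel
  have hcard : (O.erase (some 22)).card ≤ 7 := by
    rw [Finset.card_erase_of_mem h22]
    have := octad_card O_mem
    omega
  obtain ⟨u, hu, hu1, hu2⟩ := inD_d1.signs (O.erase (some 22)) hcard
    (Finset.mem_erase.2 ⟨by decide, (mem_O_iff none).2 (Or.inl rfl)⟩)
    (Finset.mem_erase.2 ⟨by decide, (mem_O_iff _).2 (Or.inr (Or.inl rfl))⟩) (v : GolayPt → ℤ) (by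
      intro i hi
      rw [Finset.mem_erase, mem_O_iff] at hi
      rcases hi.2 with rfl | rfl | hi
      · rw [(vec_d1_apply none).1 rfl, hn]; left; rfl
      · rw [(vec_d1_apply (some 0)).2.1 rfl, h0]; left; rfl
      · rcases (vec_d1_apply i).2.2.1 hi with h | h <;> rw [h] <;> rcases h6 i hi with h' | h' <;> rw [h'] <;> simp)
    (by rw [(vec_d1_apply none).1 rfl, hn]) (by rw [(vec_d1_apply (some 0)).2.1 rfl, h0])
  have hlast : u (some 22) = (v : GolayPt → ℤ) (some 22) := by
    by_contra hne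
    obtain ⟨d, hd, rfl⟩ := id hu
    have hoff : ∀ j, j ≠ some 22 → (im d : GolayPt → ℤ) j = (v : GolayPt → ℤ) j := by
      intro j hj
      by_cases hjO : j ∈ O
      · exact hu1 j (Finset.mem_erase.2 ⟨hj, hjO⟩)
      · rw [hO j hjO]
        have h4 := hu2 j
        rw [(vec_d1_apply j).2.2.2 hjO] at h4
        omega
    have h1 : ((im d - v : leechLattice) : GolayPt → ℤ) =
        Pi.single (some 22) ((im d : GolayPt → ℤ) (some 22) - (v : GolayPt → ℤ) (some 22)) := by
      funext j
      show (im d : GolayPt → ℤ) j - (v : GolayPt → ℤ) j = _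
      rw [Pi.single_apply]
      by_cases hji : j = some 22
      · rw [if_pos hji, hji]
      · rw [if_neg hji, hoff j hji]; ring
    have h2 : (Pi.single (some 22) ((im d : GolayPt → ℤ) (some 22) - (v : GolayPt → ℤ) (some 22)) : GolayPt → ℤ) ∈
        leechLattice := by
      rw [← h1]; exact Subtype.property _
    refine not_single4 _ ?_ h2
    have h3 := h6 (some 22) (by rw [mem_O6_iff]; decide)
    have h4 := hu2 (some 22)
    have h5 := (vec_d1_apply (some 22)).2.2.1 (by rw [mem_O6_iff]; decide)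
    omega
  have : u = (v : GolayPt → ℤ) := by
    funext j
    by_cases hji : j = some 22
    · rw [hji]; exact hlast
    · by_cases hjO : j ∈ O
      · exact hu1 j (Finset.mem_erase.2 ⟨hji, hjO⟩)
      · rw [hO j hjO]
        have h4 := hu2 j
        rw [(vec_d1_apply j).2.2.2 hjO] at h4
        omega
  rw [← this]; exact hu

/-! ### the interchange of `∞` and `0` -/

theorem s_pt : (el sQ : Equiv.Perm GolayPt) none = some 0 ∧ (el sQ : Equiv.Perm GolayPt) (some 0) = none ∧
    ok sQ = true ∧ pimg sQ mO = mO := by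
  have h : (ok sQ && Nat.beq (papp sQ 23) 0 && Nat.beq (papp sQ 0) 23 && Nat.beq (pimg sQ mO) mO) = true := by
    decide +kernel
  simp only [Bool.and_eq_true] at h
  obtain ⟨⟨⟨h1, h2⟩, h3⟩, h4⟩ := h
  refine ⟨?_, ?_, h1, Nat.eq_of_beq_eq_true h4⟩
  · rw [coe_el h1]
    apply idx_injective
    rw [idx_permOf]
    exact Nat.eq_of_beq_eq_true h2
  · rw [coe_el h1]
    apply idx_injective
    rw [idx_permOf]
    exact Nat.eq_of_beq_eq_true h3

theorem s_mem' : permCo0 (el sQ) ∈ D.map toCo0 := by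
  have hS := oks
  simp only [Bool.and_eq_true, Nat.blt_eq] at hS
  exact ⟨_, s_mem, toCo0_perm hS.1.1.1⟩

theorem s_O (p : GolayPt) : (el sQ : Equiv.Perm GolayPt) p ∈ O ↔ p ∈ O := by
  obtain ⟨-, -, h1, h2⟩ := s_pt
  have h3 := smul_fin (ok_iff.1 h1).1 mO
  rw [h2] at h3
  have h4 := mem_smul_iff (permOf sQ (ok_iff.1 h1).1) (fin mO) p
  rw [h3] at h4
  rw [coe_el h1]
  exact h4

theorem inD_s {x : GolayPt → ℤ} (h : InD x) : InD (permMap (el sQ) x) :=
  h.mul s_mem' fun v hv => by rw [permCo0_smul, hv]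

theorem inD_e8n : InD ((e8 none : leechLattice) : GolayPt → ℤ) := ⟨1, D.one_mem, by rw [im_one]⟩

theorem inD_e80 : InD ((e8 (some 0) : leechLattice) : GolayPt → ℤ) := by
  have h := inD_s inD_e8n
  convert h using 1
  funext i
  obtain ⟨j, rfl⟩ := (el sQ : Equiv.Perm GolayPt).surjective i
  rw [permMap_apply, Equiv.symm_apply_apply, e8_coe, e8_coe, Pi.single_apply, Pi.single_apply]
  have h1 : ((el sQ : Equiv.Perm GolayPt) j = some 0) ↔ j = none := by
    rw [← s_pt.1]
    exact (el sQ : Equiv.Perm GolayPt).injective.eq_iff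
  simp only [h1]

theorem inD_e (v : leechLattice) (hn : (v : GolayPt → ℤ) none = 2) (h0 : (v : GolayPt → ℤ) (some 0) = 6)
    (h6 : ∀ i ∈ O6, (v : GolayPt → ℤ) i = 2 ∨ (v : GolayPt → ℤ) i = -2)
    (hO : ∀ i, i ∉ O → (v : GolayPt → ℤ) i = 0) : InD (v : GolayPt → ℤ) := by
  set σ : M24 := el sQ with hσ
  set y : leechLattice := (permCo0 σ)⁻¹ • v with hy
  have hyv : permCo0 σ • y = v := by rw [hy, smul_inv_smul]
  have hval : ∀ j, (y : GolayPt → ℤ) j = (v : GolayPt → ℤ) ((σ : Equiv.Perm GolayPt) j) := by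
    intro j
    rw [← hyv, permCo0_smul, permMap_apply, Equiv.symm_apply_apply]
  have k1 : InD (y : GolayPt → ℤ) := by
    refine inD_d y ?_ ?_ ?_ ?_
    · rw [hval, s_pt.1, h0]
    · rw [hval, s_pt.2.1, hn]
    · intro i hi
      rw [hval]
      apply h6
      have h1 := (s_O i).2 ((mem_O_iff i).2 (Or.inr (Or.inr hi)))
      rw [mem_O_iff] at h1
      rcases h1 with h1 | h1 | h1
      · exfalso
        rw [← s_pt.2.1] at h1
        have := (el sQ : Equiv.Perm GolayPt).injective h1
        exact zero_notMem (this ▸ hi)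
      · exfalso
        rw [← s_pt.1] at h1
        have := (el sQ : Equiv.Perm GolayPt).injective h1
        exact none_notMem (this ▸ hi)
      · exact h1
    · intro i hi
      rw [hval]
      apply hO
      rw [s_O]; exact hi
  have k2 := inD_s k1
  rwa [← permCo0_smul, hyv] at k2

/-! ### the orbit of `8 e_∞` under `P` -/

theorem off_O {g : Spor.Co2} (hg : g ∈ P) (i : GolayPt) (hi : i ∉ O) : (im g : GolayPt → ℤ) i = 0 := by
  have h1 : toCo0 (ge mz) • e8 none = e8 none := by
    apply Subtype.ext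
    funext k
    rw [z_smul, e8_coe, Pi.single_apply]
    by_cases hk : k = none
    · subst hk; unfold sg; rw [if_neg (by decide)]; norm_num
    · rw [if_neg hk, mul_zero]
  have h2 : toCo0 (ge mz) • im g = im g := by
    unfold im
    rw [← mul_smul, ← map_mul, ← mem_P.1 hg, map_mul, mul_smul, h1]
  have h3 := z_smul (im g) i
  rw [h2] at h3
  have h4 : sg i = -1 := by
    unfold sg
    rw [if_pos]
    have : mO.testBit (idx i) = false := by
      by_contra hc
      rw [Bool.not_eq_false] at hc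
      exact hi (mem_fin.2 hc)
    have key : ∀ i : GolayPt, mO.testBit (idx i) = false → mz.testBit (idx i) = true := by decide +kernel
    exact key i this
  rw [h4] at h3
  omega

theorem orbit_cases {g : Spor.Co2} (hg : g ∈ P) : InD (im g : GolayPt → ℤ) := by
  classical
  set x : leechLattice := im g with hx
  have hN : sqNorm (x : GolayPt → ℤ) = 64 := norm_im g
  have hdot : dotInt (x : GolayPt → ℤ) (Spor.leechU : GolayPt → ℤ) = 32 := by
    have h1 := Cfsg.Agent.LeechMat.Core.co0_dotInt (toCo0 g) (e8 none) Spor.leechU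
    rw [toCo0_smul_leechU] at h1
    rw [hx]
    unfold im
    rw [h1, e8_coe]
    decide +kernel
  have hU : sqNorm (Spor.leechU : GolayPt → ℤ) = 32 := Cfsg.Agent.Co2Type.Co2El.norm_U
  set r : leechLattice := x - Spor.leechU with hr
  have hrv : ∀ i, (r : GolayPt → ℤ) i = (x : GolayPt → ℤ) i - (Spor.leechU : GolayPt → ℤ) i := fun i => rfl
  have hrN : sqNorm (r : GolayPt → ℤ) = 32 := by
    have : ((r : leechLattice) : GolayPt → ℤ) = (x : GolayPt → ℤ) - (Spor.leechU : GolayPt → ℤ) := rfl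
    rw [this, Cfsg.Agent.LeechMat.Core.sqNorm_sub, hN, hdot, hU]
    norm_num
  have hrO : ∀ i, i ∉ O → (r : GolayPt → ℤ) i = 0 := by
    intro i hi
    rw [hrv, off_O hg i hi, leechU_apply]
    have h1 : ¬ (idx i = 0 ∨ idx i = 23) := by
      intro h
      apply hi
      rw [mem_O_iff]
      rcases h with h | h
      · right; left; rw [← pt_idx i, h]; decide
      · left; rw [← pt_idx i, h]; decide
    rw [if_neg h1]; norm_num
  have hr0 : (r : GolayPt → ℤ) none + (r : GolayPt → ℤ) (some 0) = 0 := by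
    have h1 : dotInt (r : GolayPt → ℤ) (Spor.leechU : GolayPt → ℤ) = 0 := by
      have : ((r : leechLattice) : GolayPt → ℤ) = (x : GolayPt → ℤ) - (Spor.leechU : GolayPt → ℤ) := rfl
      rw [this, Cfsg.Agent.LeechMat.Core.dotInt_sub_left, hdot, ← Cfsg.Agent.LeechMat.Core.sqNorm_eq_dotInt, hU]
      norm_num
    have h2 : dotInt (r : GolayPt → ℤ) (Spor.leechU : GolayPt → ℤ) =
        4 * ((r : GolayPt → ℤ) none + (r : GolayPt → ℤ) (some 0)) := by
      unfold dotInt
      have h3 : ∀ i, (r : GolayPt → ℤ) i * (Spor.leechU : GolayPt → ℤ) i =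
          (if i = none then 4 * (r : GolayPt → ℤ) none else 0) +
            (if i = some 0 then 4 * (r : GolayPt → ℤ) (some 0) else 0) := by
        intro i
        rw [leechU_apply]
        by_cases hi : i = none
        · subst hi; simp [idx_none]; ring
        · by_cases hi' : i = some 0
          · subst hi'
            rw [if_pos (Or.inl (by decide)), if_neg hi, if_pos rfl]; ring
          · rw [if_neg hi, if_neg hi', if_neg]
            · ring
            · rintro (h | h)
              · apply hi'; rw [← pt_idx i, h]; decide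
              · apply hi; rw [← pt_idx i, h]; decide
      rw [Finset.sum_congr rfl fun i _ => h3 i, Finset.sum_add_distrib, Finset.sum_ite_eq', Finset.sum_ite_eq']
      simp
      ring
    omega
  have hxr : ∀ i, (x : GolayPt → ℤ) i = (r : GolayPt → ℤ) i + (if i = none ∨ i = some 0 then 4 else 0) := by
    intro i
    rw [hrv, leechU_apply]
    have : (idx i = 0 ∨ idx i = 23) ↔ (i = none ∨ i = some 0) := by
      revert i; decide
    simp only [this]
    ring
  have hxO : ∀ i, i ∉ O → (x : GolayPt → ℤ) i = 0 := off_O hg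
  obtain ⟨j0, hj0⟩ : ∃ j, j ∉ O := ⟨some 1, by unfold O; decide +kernel⟩
  have heven : ∀ i, (r : GolayPt → ℤ) i ≡ 0 [ZMOD 2] := by
    rcases Cfsg.Agent.SporadicStructure.MinShapes.parity_cases r.2 with h | h
    · exact h
    · exfalso
      have := h j0
      rw [hrO j0 hj0] at this
      exact absurd this (by decide)
  have nn : ∀ x ∈ O6, x ≠ none := fun x hx h => none_notMem (h ▸ hx)
  have n0 : ∀ x ∈ O6, x ≠ some 0 := fun x hx h => zero_notMem (h ▸ hx)
  rcases Cfsg.Agent.SporadicStructure.MinShapes.even_case r.2 hrN heven with ⟨T, S, hT, hST, hv⟩ | ⟨O', S, hO', hSO, -, hv⟩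
  · -- two coordinates
    have hval : ∀ i, (r : GolayPt → ℤ) i = if i ∈ T then (if i ∈ S then -4 else 4) else 0 := fun i => by
      rw [hv]; rfl
    have hne : ∀ i, i ∈ T ↔ (r : GolayPt → ℤ) i ≠ 0 := by
      intro i
      rw [hval]
      by_cases h : i ∈ T
      · rw [if_pos h]; split_ifs <;> simp [h]
      · rw [if_neg h]; simp [h]
    have hTO : ∀ i ∈ T, i ∈ O := by
      intro i hi
      by_contra h
      exact (hne i).1 hi (hrO i h)
    by_cases hn : none ∈ T
    · have h0 : some 0 ∈ T := by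
        rw [hne] at hn ⊢
        omega
      have hT2 : T = {none, some 0} := by
        symm
        apply Finset.eq_of_subset_of_card_le
        · intro i hi
          simp only [Finset.mem_insert, Finset.mem_singleton] at hi
          rcases hi with rfl | rfl
          · exact hn
          · exact h0
        · rw [hT]; decide
      have hother : ∀ i, i ≠ none → i ≠ some 0 → (x : GolayPt → ℤ) i = 0 := by
        intro i h1 h2
        rw [hxr, if_neg (by simp [h1, h2]), hval, if_neg (by rw [hT2]; simp [h1, h2])]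
        norm_num
      have hrn : (r : GolayPt → ℤ) none = 4 ∨ (r : GolayPt → ℤ) none = -4 := by
        rw [hval, if_pos hn]; split_ifs <;> simp
      rcases hrn with h1 | h1
      · have : (x : GolayPt → ℤ) = ((e8 none : leechLattice) : GolayPt → ℤ) := by
          funext i
          rw [e8_coe, Pi.single_apply]
          by_cases hi : i = none
          · rw [if_pos hi, hi, hxr, h1]; simp
          · rw [if_neg hi]
            by_cases hi0 : i = some 0
            · rw [hi0, hxr, if_pos (Or.inr rfl)]; omega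
            · exact hother i hi hi0
        rw [this]; exact inD_e8n
      · have : (x : GolayPt → ℤ) = ((e8 (some 0) : leechLattice) : GolayPt → ℤ) := by
          funext i
          rw [e8_coe, Pi.single_apply]
          by_cases hi : i = some 0
          · rw [if_pos hi, hi, hxr, if_pos (Or.inr rfl)]; omega
          · rw [if_neg hi]
            by_cases hi0 : i = none
            · rw [hi0, hxr, if_pos (Or.inl rfl)]; omega
            · exact hother i hi0 hi
        rw [this]; exact inD_e80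
    · have hrn : (r : GolayPt → ℤ) none = 0 := by rw [hval, if_neg hn]
      have hr00 : (r : GolayPt → ℤ) (some 0) = 0 := by omega
      have h0 : some 0 ∉ T := fun h => (hne _).1 h hr00
      obtain ⟨i, j, hij, hTij⟩ := Finset.card_eq_two.1 hT
      have hiT : i ∈ T := by rw [hTij]; simp
      have hjT : j ∈ T := by rw [hTij]; simp
      have h6 : ∀ k ∈ T, k ∈ O6 := by
        intro k hk
        rcases (mem_O_iff k).1 (hTO k hk) with rfl | rfl | h
        · exact absurd hk hn
        · exact absurd hk h0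
        · exact h
      have hpm : ∀ k ∈ T, (x : GolayPt → ℤ) k = 4 ∨ (x : GolayPt → ℤ) k = -4 := by
        intro k hk
        rw [hxr, if_neg (by simp [nn k (h6 k hk), n0 k (h6 k hk)]), hval, if_pos hk]
        split_ifs <;> simp
      refine inD_c (h6 i hiT) (h6 j hjT) hij ?_ ?_ (hpm i hiT) (hpm j hjT) ?_
      · rw [hxr, hrn]; simp
      · rw [hxr, hr00]; simp
      · intro k k1 k2 k3 k4
        rw [hxr, if_neg (by simp [k1, k2]), hval, if_neg (by rw [hTij]; simp [k3, k4])]
        norm_num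
  · -- eight coordinates
    have hval : ∀ i, (r : GolayPt → ℤ) i = if i ∈ O' then (if i ∈ S then -2 else 2) else 0 := fun i => by
      rw [hv]; rfl
    have hO'O : O' = O := by
      apply Finset.eq_of_subset_of_card_le
      · intro i hi
        by_contra h
        have := hrO i h
        rw [hval, if_pos hi] at this
        split_ifs at this <;> omega
      · rw [octad_card O_mem, octad_card hO']
    have hpm : ∀ i ∈ O, (r : GolayPt → ℤ) i = 2 ∨ (r : GolayPt → ℤ) i = -2 := by
      intro i hi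
      rw [hval, if_pos (by rw [hO'O]; exact hi)]
      split_ifs <;> simp
    have h6 : ∀ i ∈ O6, (x : GolayPt → ℤ) i = 2 ∨ (x : GolayPt → ℤ) i = -2 := by
      intro i hi
      rw [hxr, if_neg (by simp [nn i hi, n0 i hi]), add_zero]
      exact hpm i ((mem_O_iff i).2 (Or.inr (Or.inr hi)))
    have e1 : (x : GolayPt → ℤ) none = (r : GolayPt → ℤ) none + 4 := by rw [hxr]; simp
    have e2 : (x : GolayPt → ℤ) (some 0) = (r : GolayPt → ℤ) (some 0) + 4 := by rw [hxr]; simp
    rcases hpm none ((mem_O_iff none).2 (Or.inl rfl)) with h | h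
    · exact inD_d x (by omega) (by omega) h6 hxO
    · exact inD_e x (by omega) (by omega) h6 hxO

/-- **`P = C(z)` is perfect.** -/
theorem commutator_P : ⁅P, P⁆ = P := by
  apply le_antisymm D_le
  intro g hg
  obtain ⟨d, hd, h⟩ := orbit_cases hg
  have h1 : d⁻¹ * g ∈ D := by
    apply mono_mem (P.mul_mem (P.inv_mem (D_le hd)) hg)
    show im (d⁻¹ * g) = e8 none
    rw [im_mul, ← Subtype.ext h, ← im_mul, inv_mul_cancel, im_one]
  have h2 := D.mul_mem hd h1
  rwa [mul_inv_cancel_left] at h2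

end Cfsg.Agent.KFacts.CoTwo.Perf

end
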