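import Cfsg.Agent.KFacts.CoTwo.Base
import Cfsg.Agent.KFacts.CoTwo.Perf
import Cfsg.Agent.Co2Type.Quad
import Cfsg.Agent.KFacts.LargeO2
import Cfsg.Agent.Co2Type.FactsClass
set_option linter.all false

-- merged: Cfsg.Agent.KFacts.CoTwo.RData
section

/-!
# Data for `R = O₂(C(z))` in `Spor.Co2` (helper902)
-/

set_option autoImplicit false

namespace Cfsg.Agent.KFacts.CoTwo.RData

/-- the permutations fixing the octad `O` pointwise -/
def R16 : List ℕ := [
  984818244535754528103549039458486304,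
  984595137648923788561440491536746848,
  984123571547119987159515244511988160,
  984778947275340660717821982278781344,
  984649647149968121315896139822762272,
  984231322269954045815289618422139072,
  984152727466544257491081215029119232,
  984571052771685786531681076360874368,
  984469640424621770493152374929066624,
  984522881593772296139707057299359872,
  984404989996146640795157331214174720,
  983998074281752343943170086404197024,
  984439216841335364591954947081341408,
  984273154656616016941563778037811360,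
  984194560199829098639614076839364832,
  984321324869319684017664638098442784]

/-- basis of the masks disjoint from `O` -/
def E5 : List ℕ := [
  31554,
  78514,
  168928,
  1084018,
  2141072]

/-- the masks disjoint from `O` -/
def S32 : List ℕ := [
  0, 31554, 78514, 84464, 168928, 190626, 237906, 252432, 1084018, 1110320, 1161408, 1164162, 1186194, 1204944, 1256224, 1265762, 2141072, 2150610, 2201890, 2220640, 2242672, 2245426, 2296514, 2322816, 3154402, 3168928, 3216208, 3237906, 3322370, 3328320, 3375280, 3406834]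

/-- permutations of the octad moving the mask 31554 to the 30 masks -/
def TL : List ℕ := [
  0xb8a3590cef8342b658ce2a0949a920,
  0xb89f5b0cd4740ec2a82d5a5119c880,
  0xbcde9959aca98eb28890a383150d00,
  0xbcc2e189706a4f1428a6ab094959e0,
  0xbd88954d8682cad78cf1ab91414820,
  0xbd8f41498e5c11178c8da98a954c20,
  0xbc8e5b090132e2c70d24a42ad54de0,
  0xbd8ec92ab0724262cdeb8d10d18880,
  0xb88d19a82983cb4449c45b6a71d980,
  0xbd9c49892589d6c329f4ab42890e00,
  0xba98610e242bdd03da895a1b59c820,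
  0xb88c5959d582e3424c2879d2d1a980,
  0xba98b9da157a686709a44442590ce0,
  0xb882f9c8e4751714d9a8642a61a8a0,
  0xb8da91497544586a4dc5240ef55820,
  0xb8c30159c6a1ea44a9af620b19c960,
  0xbcda9149105902638dcf8d685b2980,
  0xb8a299288672ea58590c6be871cc20,
  0xbcceb18914216ad759e60c22c54920,
  0xb8a8e54d303adb1a8cc5431e195880,
  0xbc9eb54cd0a122848aa1694ec1d9c0,
  0xba88eb0d0d28606accf17a59414960,
  0xb88c9559740ba3568e087b0a49c8e0,
  0xbc9c9b4e04798e86a8255d59118a80,
  0xbc90f9a8816b935a09658b0d0b0ce0,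
  0xbc9e79d8257193460a045d5b11a900,
  0xb89ecb0e254b9a124aab3c0c854e80,
  0xbd9661c907735f562a29204b014e80,
  0xb8924b48b00d4cf44d6e6c4ec50e80,
  0xba9861892143eb43ce116956eb4880]

/-- a permutation fixing `O` pointwise -/
def Q0 : ℕ := 984595137648923788561440491536746848

/-- permutations of the octad conjugating `Q0` to the 15 elements -/
def TL2 : List ℕ := [
  0xb888954cb40a18dac8ee7c566b0e00,
  0xb8ca79c8d14548ba09cd6052fb2a00,
  0xbca2510e8f820ce4cc2bab487b2980,
  0xbcd0d1aa2e851e62d82baa4ec90880,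
  0xbda25189b0591e1ac9c64313454ce0,
  0xb8e0b14ccf396a942a2e6928c95820,
  0xbc8e898ca43352ca8a21851cb559e0,
  0xbcdab549354323430e017b8e4158a0,
  0xbaa87b4d0b0d5cf2ca068b48c10d20,
  0xbcea418a0ba44c92a9070bdcd95980,
  0xbd92c94c918151538e817356f508c0,
  0xbd8d454ea44157108dcd61e09149e0,
  0xbcdb11da0743d740a926612ae148a0,
  0xba9cb9c8cf430874d8a1ab69110e00,
  0xbd9a814e0f89d74aa8ac338241c920]

end Cfsg.Agent.KFacts.CoTwo.RData

end

-- merged: Cfsg.Agent.KFacts.CoTwo.RSub
section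

/-!
# `R = O₂(C(z))` in `Spor.Co2`: a large extraspecial subgroup of order `2^9` (helper902)

`R`: the elements of `P = C(z)` fixing the vectors `8 e_i`, `i` in the octad `O`. `mem_R_iff`: the monomial elements
`mo2 m Q`, `m` disjoint from `O`, `Q` fixing `O` pointwise. `large : Large R (ge mz)`, `card_R`, `weakly`: `z` is the only
conjugate of `z` in `R`.
-/

set_option autoImplicit false
set_option linter.dupNamespace false
set_option linter.unusedVariables false

namespace Cfsg.Agent.KFacts.CoTwo.RSub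

open Cfsg Cfsg.Agent.SporadicA.GolayBase Cfsg.Agent.SporadicA.GolayPerm
open Cfsg.Agent.SporadicStructure.M24El Cfsg.Agent.SporadicA.Co0Mono
open Cfsg.Agent.Co2Type.Mono Cfsg.Agent.Co2Type.TGroup Cfsg.Agent.Co2Type.TData Cfsg.Agent.Co2Type.FactsD
open Cfsg.Agent.SporadicStructure.Co0Base (e8 e8_coe)
open Cfsg.Agent.SporadicStructure.LeechBase (zmod2_cases)
open Cfsg.Agent.SporadicA.Co1Simple (N exists_sign_perm sign_mem_N)
open Cfsg.Agent.KFacts.CoTwo.Base Cfsg.Agent.KFacts.CoTwo.Data Cfsg.Agent.KFacts.CoTwo.MPerf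
open Cfsg.Agent.KFacts.CoTwo.Perf Cfsg.Agent.KFacts.CoTwo.RData
open scoped Pointwise commutatorElement

/-! ### monomial elements, again -/

theorem mo2_smul {m Q : ℕ} (hm : inE m = true) (hQ : okP Q = true) (x : leechLattice) (i : GolayPt) :
    ((toCo0 (mo2 m Q) • x : leechLattice) : GolayPt → ℤ) i =
      sgn (word m i) * (x : GolayPt → ℤ) ((el Q : Equiv.Perm GolayPt).symm i) := by
  rw [toCo0_mo2 hm hQ]
  unfold mo
  rw [mul_smul, signCo0_smul, signMap_apply, permCo0_smul, permMap_apply, coe_cd (isCode_of_inE hm)]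

/-- Elements of `Spor.Co2` preserving the frame are monomial. -/
theorem mono_of_N {g : Spor.Co2} (h : toCo0 g ∈ N) :
    ∃ m Q, inE m = true ∧ okP Q = true ∧ Q < 2 ^ 120 ∧ g = mo2 m Q := by
  obtain ⟨c, σ, hcσ⟩ := exists_sign_perm h
  obtain ⟨m, hm, rfl⟩ := exists_cd c
  obtain ⟨Q, hQ, hlt, rfl⟩ := exists_el σ
  have hg : toCo0 g = mo m Q := hcσ
  have hv : ∀ i, sgn (word m i) * (Spor.leechU : GolayPt → ℤ) ((el Q : Equiv.Perm GolayPt).symm i) =
      (Spor.leechU : GolayPt → ℤ) i := by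
    intro i
    have h1 := congrArg (fun x : leechLattice => (x : GolayPt → ℤ) i) (toCo0_smul_leechU g)
    change ((toCo0 g • Spor.leechU : leechLattice) : GolayPt → ℤ) i = _ at h1
    rw [hg] at h1
    unfold mo at h1
    rwa [mul_smul, signCo0_smul, signMap_apply, permCo0_smul, permMap_apply, coe_cd hm] at h1
  have key : ∀ i : GolayPt, idx i = 0 ∨ idx i = 23 → m.testBit (idx i) = false ∧
      (idx ((el Q : Equiv.Perm GolayPt).symm i) = 0 ∨ idx ((el Q : Equiv.Perm GolayPt).symm i) = 23) := by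
    intro i hi
    have h1 := hv i
    rw [leechU_apply, leechU_apply, if_pos hi] at h1
    by_cases h2 : idx ((el Q : Equiv.Perm GolayPt).symm i) = 0 ∨ idx ((el Q : Equiv.Perm GolayPt).symm i) = 23
    · refine ⟨?_, h2⟩
      rw [if_pos h2, word_apply] at h1
      by_contra h3
      rw [Bool.not_eq_false] at h3
      rw [if_pos h3, sgn_one] at h1
      norm_num at h1
    · rw [if_neg h2, mul_zero] at h1
      norm_num at h1
  have hp := (ok_iff.1 hQ).1
  obtain ⟨k1, k2⟩ := key none (Or.inr rfl)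
  obtain ⟨k3, k4⟩ := key (some 0) (Or.inl rfl)
  have e1 : papp Q (idx ((el Q : Equiv.Perm GolayPt).symm none)) = 23 := by
    have h1 := congrArg idx ((el Q : Equiv.Perm GolayPt).apply_symm_apply none)
    rw [coe_el hQ, idx_permOf] at h1
    rw [coe_el hQ]
    exact h1
  have e2 : papp Q (idx ((el Q : Equiv.Perm GolayPt).symm (some 0))) = 0 := by
    have h1 := congrArg idx ((el Q : Equiv.Perm GolayPt).apply_symm_apply (some 0))
    rw [coe_el hQ, idx_permOf] at h1
    rw [coe_el hQ]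
    exact h1
  have hP : okP Q = true := by
    refine okP_iff.2 ⟨hQ, ?_⟩
    rcases k2 with h1 | h1 <;> rcases k4 with h2 | h2 <;> rw [h1] at e1 <;> rw [h2] at e2
    · rw [e1] at e2; exact absurd e2 (by norm_num)
    · right; exact ⟨e1, e2⟩
    · left; exact ⟨e2, e1⟩
    · rw [e1] at e2; exact absurd e2 (by norm_num)
  have hE : inE m = true := inE_iff.2 ⟨hm, k3, k1⟩
  refine ⟨m, Q, hE, hP, hlt, ?_⟩
  apply toCo0_injective
  rw [hg, toCo0_mo2 hE hP]

/-! ### the sixteen permutations -/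

theorem chkR16 : (R16.all fun Q => memL Q L22 && fxB [23, 0, 2, 3, 10, 18, 19, 22] Q) = true := by decide +kernel

theorem nodup_R16 : R16.Nodup := nodup_of_nodupL (by decide +kernel)

theorem R16_images : ((List.range 24).filter fun b => !(mO.testBit b)).all
    (fun b => R16.any fun Q => Nat.beq (papp Q 1) b) = true := by decide +kernel

theorem mem_L22_of_R16 {Q : ℕ} (h : Q ∈ R16) : Q ∈ L22 := by
  have h1 := List.all_eq_true.1 chkR16 Q h
  rw [Bool.and_eq_true] at h1
  exact memL_iff.1 h1.1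

theorem fx_of_R16 {Q : ℕ} (h : Q ∈ R16) : Fx [23, 0, 2, 3, 10, 18, 19, 22] (el Q) := by
  have h1 := List.all_eq_true.1 chkR16 Q h
  rw [Bool.and_eq_true] at h1
  exact (fx_of h1.2).2

/-- fixing the points of the octad -/
theorem fx_iff {σ : M24} : Fx [23, 0, 2, 3, 10, 18, 19, 22] σ ↔ ∀ i ∈ O, (σ : Equiv.Perm GolayPt) i = i := by
  have key : ∀ i : GolayPt, i ∈ O ↔ idx i ∈ [23, 0, 2, 3, 10, 18, 19, 22] := by
    unfold O; decide +kernel
  constructor
  · intro h i hi
    have := h.2 (idx i) ((key i).1 hi)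
    rwa [pt_idx] at this
  · intro h
    refine ⟨fun p hp => by rw [h p hp]; exact hp, fun i hi => ?_⟩
    have hi' : i < 24 := by
      have : ∀ a ∈ [23, 0, 2, 3, 10, 18, 19, 22], a < 24 := by decide
      exact this i hi
    exact h _ ((key _).2 (by rw [idx_pt hi']; exact hi))

theorem R16_complete {Q : ℕ} (hQ : ok Q = true) (hlt : Q < 2 ^ 120) (h : Fx [23, 0, 2, 3, 10, 18, 19, 22] (el Q)) :
    Q ∈ R16 := by
  have h1 := img_mem' (a := 1) (by norm_num) (by decide) h
  have h2 := List.all_eq_true.1 R16_images _ h1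
  rw [List.any_eq_true] at h2
  obtain ⟨Q', hQ', h3⟩ := h2
  have h3' := Nat.eq_of_beq_eq_true h3
  have hL := mem_L22_of_R16 hQ'
  have hok' := ok_of_mem hL
  have f1 := fx_of_R16 hQ'
  have f2 := f1.inv.mul h
  have hone : (((el Q')⁻¹ * el Q : M24) : Equiv.Perm GolayPt) = 1 := by
    refine Cfsg.Agent.SporadicStructure.M24Frame.eq_one_of_fix_frame ((el Q')⁻¹ * el Q : M24).2 O_mem
      (s := O) subset_rfl (by rw [octad_card O_mem]; norm_num) (fx_iff.1 f2) (p := pt 1) (by unfold O; decide +kernel) ?_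
    show (el Q' : Equiv.Perm GolayPt)⁻¹ ((el Q : Equiv.Perm GolayPt) (pt 1)) = pt 1
    rw [Equiv.Perm.inv_eq_iff_eq]
    apply idx_injective
    rw [coe_el hok', idx_permOf, idx_pt (by norm_num : 1 < 24), h3']
  have h4 : (el Q')⁻¹ * el Q = 1 := Subtype.ext hone
  have h5 : el Q = el Q' := (inv_mul_eq_one.1 h4).symm
  rw [el_inj hQ hok' hlt (lt_of_mem hL) h5]
  exact hQ'

/-! ### the masks disjoint from the octad -/

/-- mask disjoint from `O` -/
def dj (m : ℕ) : Bool := Nat.beq (Nat.land m mO) 0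

theorem chkS32 : allSp B10 (fun m => cond (dj m) (memL m S32) true) 0 = true := by decide +kernel

theorem chkS32' : (S32.all fun m => inE m && dj m) = true := by decide +kernel

theorem nodup_S32 : S32.Nodup := nodup_of_nodupL (by decide +kernel)

theorem mem_S32_iff {m : ℕ} : m ∈ S32 ↔ inE m = true ∧ dj m = true := by
  constructor
  · intro h
    have h1 := List.all_eq_true.1 chkS32' m h
    rwa [Bool.and_eq_true] at h1
  · rintro ⟨h1, h2⟩
    have h3 := allSp_zero chkS32 (sp_B10 h1)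
    rw [h2, cond_true] at h3
    exact memL_iff.1 h3

theorem dj_iff {m : ℕ} : dj m = true ↔ ∀ i ∈ O, m.testBit (idx i) = false := by
  have h1 : dj m = true ↔ Nat.land m mO = 0 :=
    ⟨Nat.eq_of_beq_eq_true, fun h => by unfold dj; rw [h]; exact Nat.beq_refl _⟩
  rw [h1]
  constructor
  · intro h i hi
    have h2 : (m &&& mO).testBit (idx i) = false := by
      have : m &&& mO = 0 := h
      rw [this, Nat.zero_testBit]
    rw [Nat.testBit_and] at h2
    have h3 : mO.testBit (idx i) = true := mem_fin.1 hi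
    rw [h3, Bool.and_true] at h2
    exact h2
  · intro h
    show m &&& mO = 0
    apply Nat.eq_of_testBit_eq
    intro i
    rw [Nat.testBit_and, Nat.zero_testBit]
    by_cases hi : i < 24
    · by_cases h3 : mO.testBit i = true
      · have h4 : pt i ∈ O := mem_fin.2 (by rw [idx_pt hi]; exact h3)
        have := h _ h4
        rw [idx_pt hi] at this
        rw [this, Bool.false_and]
      · rw [Bool.not_eq_true] at h3
        rw [h3, Bool.and_false]
    · have h2 : mO < 2 ^ i := lt_of_lt_of_le mO_lt (Nat.pow_le_pow_right (by norm_num) (by omega))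
      rw [Nat.testBit_lt_two_pow h2, Bool.and_false]

/-! ### the group `R` -/

theorem im8_supp {g : Spor.Co2} (hg : g ∈ P) {j : GolayPt} (hj : j ∈ O) (i : GolayPt) (hi : i ∉ O) :
    ((toCo0 g • e8 j : leechLattice) : GolayPt → ℤ) i = 0 := by
  have key : ∀ i : GolayPt, sg i = if i ∈ O then 1 else -1 := by
    unfold sg O; decide +kernel
  have h1 : toCo0 (ge mz) • e8 j = e8 j := by
    apply Subtype.ext
    funext k
    rw [z_smul, e8_coe, Pi.single_apply]
    by_cases hk : k = j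
    · rw [key, if_pos (by rw [hk]; exact hj)]; rw [one_mul]
    · rw [if_neg hk, mul_zero]
  have h2 : toCo0 (ge mz) • (toCo0 g • e8 j) = toCo0 g • e8 j := by
    rw [← mul_smul, ← map_mul, ← mem_P.1 hg, map_mul, mul_smul, h1]
  have h3 := z_smul (toCo0 g • e8 j) i
  rw [h2, key, if_neg hi] at h3
  omega

/-- `R` -/
def R : Subgroup Spor.Co2 where
  carrier := {g | g ∈ P ∧ ∀ i ∈ O, toCo0 g • e8 i = e8 i}
  one_mem' := ⟨P.one_mem, fun i _ => by rw [map_one, one_smul]⟩
  mul_mem' := fun {a b} ha hb => ⟨P.mul_mem ha.1 hb.1, fun i hi => by rw [map_mul, mul_smul, hb.2 i hi, ha.2 i hi]⟩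
  inv_mem' := fun {a} ha => ⟨P.inv_mem ha.1, fun i hi => by rw [map_inv, inv_smul_eq_iff, ha.2 i hi]⟩

theorem mem_R_def {g : Spor.Co2} : g ∈ R ↔ g ∈ P ∧ ∀ i ∈ O, toCo0 g • e8 i = e8 i := Iff.rfl

theorem R_le_P : R ≤ P := fun g hg => hg.1

/-- the monomial elements of `R` -/
theorem mo2_mem_R {m Q : ℕ} (hm : m ∈ S32) (hQ : Q ∈ R16) : mo2 m Q ∈ R := by
  obtain ⟨hE, hd⟩ := mem_S32_iff.1 hm
  have hL := mem_L22_of_R16 hQ
  refine ⟨T_le_P (mo2_mem_T hE hL), fun i hi => ?_⟩
  apply Subtype.ext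
  funext k
  rw [mo2_smul hE (okP_of_mem hL), e8_coe, Pi.single_apply, Pi.single_apply]
  have hfix := fx_iff.1 (fx_of_R16 hQ) i hi
  have h1 : ((el Q : Equiv.Perm GolayPt).symm k = i) ↔ k = i := by
    rw [Equiv.symm_apply_eq, hfix]
  simp only [h1]
  by_cases hk : k = i
  · subst hk
    rw [if_pos rfl, word_apply, dj_iff.1 hd k hi]
    simp [sgn_zero]
  · rw [if_neg hk, mul_zero]

theorem exists_of_mem_R {g : Spor.Co2} (h : g ∈ R) : ∃ m Q, m ∈ S32 ∧ Q ∈ R16 ∧ g = mo2 m Q := by
  obtain ⟨hP, hfix⟩ := h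
  obtain ⟨m, Q, hm, hQ, hlt, -, -, rfl⟩ := mono_of_fix (hfix none ((mem_O_iff none).2 (Or.inl rfl)))
  have key : ∀ i ∈ O, (el Q : Equiv.Perm GolayPt) i = i ∧ m.testBit (idx i) = false := by
    intro i hi
    have h1 := congrArg (fun x : leechLattice => (x : GolayPt → ℤ) i) (hfix i hi)
    change ((toCo0 (mo2 m Q) • e8 i : leechLattice) : GolayPt → ℤ) i = ((e8 i : leechLattice) : GolayPt → ℤ) i at h1
    rw [mo2_smul hm hQ, e8_coe, Pi.single_eq_same, Pi.single_apply] at h1
    by_cases h2 : (el Q : Equiv.Perm GolayPt).symm i = i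
    · refine ⟨((Equiv.symm_apply_eq _).1 h2).symm, ?_⟩
      rw [if_pos h2, word_apply] at h1
      by_contra h3
      rw [Bool.not_eq_false] at h3
      rw [if_pos h3, sgn_one] at h1
      norm_num at h1
    · rw [if_neg h2, mul_zero] at h1
      norm_num at h1
  exact ⟨m, Q, mem_S32_iff.2 ⟨hm, dj_iff.2 fun i hi => (key i hi).2⟩,
    R16_complete (ok_of_okP hQ) hlt (fx_iff.2 fun i hi => (key i hi).1), rfl⟩

theorem mem_R_iff {g : Spor.Co2} : g ∈ R ↔ ∃ m Q, m ∈ S32 ∧ Q ∈ R16 ∧ g = mo2 m Q :=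
  ⟨exists_of_mem_R, by rintro ⟨m, Q, hm, hQ, rfl⟩; exact mo2_mem_R hm hQ⟩

theorem R_le_T : R ≤ T := by
  intro g hg
  obtain ⟨m, Q, hm, hQ, rfl⟩ := exists_of_mem_R hg
  exact mo2_mem_T (mem_S32_iff.1 hm).1 (mem_L22_of_R16 hQ)

/-- an element of `R` fixes every vector supported by the octad -/
theorem fix_of_supp {g : Spor.Co2} (h : g ∈ R) {y : leechLattice} (hy : ∀ i, i ∉ O → (y : GolayPt → ℤ) i = 0) :
    toCo0 g • y = y := by
  obtain ⟨m, Q, hm, hQ, rfl⟩ := exists_of_mem_R h
  obtain ⟨hE, hd⟩ := mem_S32_iff.1 hm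
  apply Subtype.ext
  funext i
  rw [mo2_smul hE (okP_of_mem (mem_L22_of_R16 hQ))]
  have hfix := fx_iff.1 (fx_of_R16 hQ)
  by_cases hi : i ∈ O
  · rw [word_apply, dj_iff.1 hd i hi, (Equiv.symm_apply_eq _).2 (hfix i hi).symm]
    simp [sgn_zero]
  · rw [hy i hi, hy, mul_zero]
    intro hc
    have h1 := hfix _ hc
    rw [Equiv.apply_symm_apply] at h1
    rw [← h1] at hc
    exact hi hc

theorem conj_mem {g x : Spor.Co2} (hg : g ∈ P) (hx : x ∈ R) : g * x * g⁻¹ ∈ R := by
  refine ⟨P.mul_mem (P.mul_mem hg hx.1) (P.inv_mem hg), fun i hi => ?_⟩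
  rw [map_mul, map_mul, mul_smul, mul_smul, fix_of_supp hx (im8_supp (P.inv_mem hg) hi), ← mul_smul, ← map_mul,
    mul_inv_cancel, map_one, one_smul]

/-! ### `R` is extraspecial -/

theorem chkMask : (R16.all fun Q => S32.all fun m => Nat.beq (pimg Q m) m || Nat.beq (pimg Q m) (Nat.xor m mz)) = true := by
  decide +kernel

theorem pimg_R {Q m : ℕ} (hQ : Q ∈ R16) (hm : m ∈ S32) : pimg Q m = m ∨ pimg Q m = m ^^^ mz := by
  have h := List.all_eq_true.1 (List.all_eq_true.1 chkMask Q hQ) m hm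
  rw [Bool.or_eq_true] at h
  rcases h with h | h
  · exact Or.inl (Nat.eq_of_beq_eq_true h)
  · exact Or.inr (Nat.eq_of_beq_eq_true h)

theorem chkComm16 : (R16.all fun Q => R16.all fun S => Nat.beq (pcomp Q S) (pcomp S Q)) = true := by decide +kernel

theorem chkSq16 : (R16.all fun Q => Nat.beq (pcomp Q Q) idP) = true := by decide +kernel

theorem ge_mz_mul {m Q : ℕ} (hm : inE m = true) (hQ : okP Q = true) : mo2 m Q * ge mz = ge mz * mo2 m Q → 
    mo2 m Q * ge mz = mo2 (m ^^^ mz) Q := by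
  intro h
  rw [h]
  unfold ge
  rw [mo2_mul_left iz hm hQ, Nat.xor_comm]

theorem z_R {x : Spor.Co2} (hx : x ∈ R) : x * ge mz = ge mz * x := mem_P.1 (R_le_P hx)

theorem sq_R {x : Spor.Co2} (hx : x ∈ R) : x * x = 1 ∨ x * x = ge mz := by
  obtain ⟨m, Q, hm, hQ, rfl⟩ := exists_of_mem_R hx
  have hE := (mem_S32_iff.1 hm).1
  have hP := okP_of_mem (mem_L22_of_R16 hQ)
  rw [mo2_mul hE hE hP hP, Nat.eq_of_beq_eq_true (List.all_eq_true.1 chkSq16 Q hQ)]
  rcases pimg_R hQ hm with h | h
  · left; rw [h, Nat.xor_self, mo2_one]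
  · right; rw [h, ← Nat.xor_assoc, Nat.xor_self, Nat.zero_xor]; rfl

theorem comm_R {x y : Spor.Co2} (hx : x ∈ R) (hy : y ∈ R) : x * y = y * x ∨ x * y = y * x * ge mz := by
  obtain ⟨m, Q, hm, hQ, rfl⟩ := exists_of_mem_R hx
  obtain ⟨n, S, hn, hS, rfl⟩ := exists_of_mem_R hy
  have hE := (mem_S32_iff.1 hm).1
  have hE' := (mem_S32_iff.1 hn).1
  have hP := okP_of_mem (mem_L22_of_R16 hQ)
  have hP' := okP_of_mem (mem_L22_of_R16 hS)
  have hc : pcomp Q S = pcomp S Q :=
    Nat.eq_of_beq_eq_true (List.all_eq_true.1 (List.all_eq_true.1 chkComm16 Q hQ) S hS)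
  have e1 : mo2 m Q * mo2 n S = mo2 (m ^^^ pimg Q n) (pcomp Q S) := mo2_mul hE hE' hP hP'
  have e2 : mo2 n S * mo2 m Q = mo2 (n ^^^ pimg S m) (pcomp Q S) := by rw [mo2_mul hE' hE hP' hP, hc]
  have hyx : mo2 n S * mo2 m Q ∈ R := R.mul_mem (mo2_mem_R hn hS) (mo2_mem_R hm hQ)
  have hin : inE (n ^^^ pimg S m) = true := inE_xor hE' (inE_pimg hP' hE)
  have e3 : mo2 n S * mo2 m Q * ge mz = mo2 ((n ^^^ pimg S m) ^^^ mz) (pcomp Q S) := by
    have h1 := z_R hyx
    rw [e2] at h1 ⊢
    exact ge_mz_mul hin (okP_pcomp hP hP') h1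
  have hA : (m ^^^ pimg Q n) ^^^ (n ^^^ pimg S m) = (m ^^^ pimg S m) ^^^ (n ^^^ pimg Q n) := by
    apply Nat.eq_of_testBit_eq
    intro i
    simp only [Nat.testBit_xor]
    cases m.testBit i <;> cases (pimg Q n).testBit i <;> cases n.testBit i <;> cases (pimg S m).testBit i <;> rfl
  have hB : ∀ {Q m : ℕ}, Q ∈ R16 → m ∈ S32 → m ^^^ pimg Q m = 0 ∨ m ^^^ pimg Q m = mz := by
    intro Q m hQ hm
    rcases pimg_R hQ hm with h | h
    · left; rw [h, Nat.xor_self]
    · right; rw [h, ← Nat.xor_assoc, Nat.xor_self, Nat.zero_xor]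
  have hC : (m ^^^ pimg Q n) = (n ^^^ pimg S m) ∨ (m ^^^ pimg Q n) = (n ^^^ pimg S m) ^^^ mz := by
    have h3 : (m ^^^ pimg Q n) ^^^ (n ^^^ pimg S m) = 0 ∨ (m ^^^ pimg Q n) ^^^ (n ^^^ pimg S m) = mz := by
      rw [hA]
      rcases hB hS hm with h1 | h1 <;> rcases hB hQ hn with h2 | h2 <;> rw [h1, h2]
      · left; rfl
      · right; rw [Nat.zero_xor]
      · right; rw [Nat.xor_zero]
      · left; rw [Nat.xor_self]
    rcases h3 with h3 | h3
    · left; exact Nat.xor_eq_zero_iff.1 h3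
    · right
      rw [← h3, Nat.xor_comm (m ^^^ pimg Q n), ← Nat.xor_assoc, Nat.xor_self, Nat.zero_xor]
  rcases hC with h | h
  · left; rw [e1, e2, h]
  · right; rw [e1, e3, h]

end Cfsg.Agent.KFacts.CoTwo.RSub

end

-- merged: Cfsg.Agent.KFacts.CoTwo.RLarge
section

/-!
# `R = O₂(C(z))` in `Spor.Co2` is a large extraspecial subgroup of order `2^9` (helper902)
-/

set_option autoImplicit false
set_option linter.dupNamespace false
set_option linter.unusedVariables false

namespace Cfsg.Agent.KFacts.CoTwo.RLarge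

open Cfsg Cfsg.Agent.SporadicA.GolayBase Cfsg.Agent.SporadicA.GolayPerm
open Cfsg.Agent.SporadicStructure.M24El Cfsg.Agent.SporadicA.Co0Mono
open Cfsg.Agent.Co2Type.Mono Cfsg.Agent.Co2Type.TGroup Cfsg.Agent.Co2Type.TData Cfsg.Agent.Co2Type.FactsD
open Cfsg.Agent.Co2Type.TCard
open Cfsg.Agent.SporadicStructure.Co0Base (e8 e8_coe)
open Cfsg.Agent.SporadicStructure.LeechBase (zmod2_cases)
open Cfsg.Agent.SporadicA.Co1Simple (N exists_sign_perm sign_mem_N)
open Cfsg.Agent.KFacts.CoTwo.Base Cfsg.Agent.KFacts.CoTwo.Data Cfsg.Agent.KFacts.CoTwo.MPerf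
open Cfsg.Agent.KFacts.CoTwo.Perf Cfsg.Agent.KFacts.CoTwo.RData Cfsg.Agent.KFacts.CoTwo.RSub
open scoped Pointwise commutatorElement

/-! ### the centre of `R` -/

theorem chkFaithR : (R16.all fun Q => Nat.beq Q idP || S32.any fun n => !(Nat.beq (pimg Q n) n)) = true := by
  decide +kernel

theorem idP_mem : idP ∈ R16 := memL_iff.1 (by decide +kernel)

theorem ge_mem_R {n : ℕ} (hn : n ∈ S32) : ge n ∈ R := mo2_mem_R hn idP_mem

theorem zero_mem : 0 ∈ S32 := memL_iff.1 (by decide +kernel)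

theorem mz_mem : mz ∈ S32 := memL_iff.1 (by decide +kernel)

theorem chkFixR : (allSp B10 (fun m => (Nat.beq m 0 || Nat.beq m mz) || R16.any fun Q => !(Nat.beq (pimg Q m) m)) 0) = true := by
  decide +kernel

/-- a mask fixed by the sixteen permutations -/
theorem mask_fixed {m : ℕ} (hm : inE m = true) (h : ∀ Q ∈ R16, pimg Q m = m) : m = 0 ∨ m = mz := by
  have h1 := allSp_zero chkFixR (sp_B10 hm)
  rw [Bool.or_eq_true, Bool.or_eq_true, List.any_eq_true] at h1
  rcases h1 with (h1 | h1) | ⟨Q, hQ, h1⟩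
  · exact Or.inl (Nat.eq_of_beq_eq_true h1)
  · exact Or.inr (Nat.eq_of_beq_eq_true h1)
  · rw [h Q hQ, Nat.beq_refl] at h1
    exact absurd h1 (by simp)

theorem idP_of_fixed {Q : ℕ} (hQ : Q ∈ R16) (h : ∀ n ∈ S32, pimg Q n = n) : Q = idP := by
  have h1 := List.all_eq_true.1 chkFaithR Q hQ
  rw [Bool.or_eq_true, List.any_eq_true] at h1
  rcases h1 with h1 | ⟨n, hn, h1⟩
  · exact Nat.eq_of_beq_eq_true h1
  · rw [h n hn, Nat.beq_refl] at h1
    exact absurd h1 (by simp)

/-- an element `ge m` commuting with `R` -/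
theorem ge_cent {m : ℕ} (hm : inE m = true) (h : ∀ y ∈ R, ge m * y = y * ge m) : ge m = 1 ∨ ge m = ge mz := by
  have h1 : m = 0 ∨ m = mz := by
    refine mask_fixed hm fun Q hQ => ?_
    have h2 := h _ (mo2_mem_R zero_mem hQ)
    exact (comm_E_iff inE_zero hm (okP_of_mem (mem_L22_of_R16 hQ)) (lt_of_mem (mem_L22_of_R16 hQ))).1 h2.symm
  rcases h1 with rfl | rfl
  · exact Or.inl ge_zero
  · exact Or.inr rfl

theorem cent_R {x : Spor.Co2} (hx : x ∈ R) (h : ∀ y ∈ R, x * y = y * x) : x = 1 ∨ x = ge mz := by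
  obtain ⟨m, Q, hm, hQ, rfl⟩ := exists_of_mem_R hx
  have hE := (mem_S32_iff.1 hm).1
  have h1 : Q = idP := by
    refine idP_of_fixed hQ fun n hn => ?_
    exact (comm_E_iff hE (mem_S32_iff.1 hn).1 (okP_of_mem (mem_L22_of_R16 hQ)) (lt_of_mem (mem_L22_of_R16 hQ))).1
      (h _ (ge_mem_R hn))
  subst h1
  exact ge_cent hE h

/-! ### `C(R) ≤ R` -/

/-- the sixteen points are separated by the masks -/
def L24 : List ℕ := [0, 1, 2, 3, 4, 5, 6, 7, 8, 9, 10, 11, 12, 13, 14, 15, 16, 17, 18, 19, 20, 21, 22, 23]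

theorem mem_L24 {i : ℕ} (h : i < 24) : i ∈ L24 := by
  have : ∀ i < 24, i ∈ L24 := by decide
  exact this i h

theorem chkSep : (L24.all fun j => Nat.beq (Nat.land 1 (Nat.shiftRight mO j)) 1 || L24.all fun i => Nat.beq i j ||
    E5.any fun m => Bool.xor (m.testBit i) (m.testBit j)) = true := by decide +kernel

theorem chkE5 : (E5.all fun m => memL m S32) = true := by decide +kernel

theorem mem_E5 {m : ℕ} (h : m ∈ E5) : m ∈ S32 := memL_iff.1 (List.all_eq_true.1 chkE5 m h)

theorem toCo0_ge {m : ℕ} (hm : inE m = true) : toCo0 (ge m) = signCo0 (cd m) := by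
  unfold ge
  rw [toCo0_mo2 hm okP_idP]
  unfold mo
  rw [el_idP, map_one, mul_one]

theorem ge_smul {m : ℕ} (hm : inE m = true) (x : leechLattice) (i : GolayPt) :
    ((toCo0 (ge m) • x : leechLattice) : GolayPt → ℤ) i = sgn (word m i) * (x : GolayPt → ℤ) i := by
  rw [toCo0_ge hm, signCo0_smul, signMap_apply, coe_cd (isCode_of_inE hm)]

theorem ge_e8 {m : ℕ} (hm : inE m = true) (j : GolayPt) : 
    toCo0 (ge m) • e8 j = if m.testBit (idx j) then -(e8 j) else e8 j := by
  apply Subtype.ext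
  funext k
  rw [ge_smul hm]
  split_ifs with h
  · show _ = -((e8 j : leechLattice) : GolayPt → ℤ) k
    rw [e8_coe, Pi.single_apply]
    by_cases hk : k = j
    · subst hk
      rw [if_pos rfl, word_apply, if_pos h, sgn_one]; ring
    · rw [if_neg hk]; ring
  · rw [e8_coe, Pi.single_apply]
    by_cases hk : k = j
    · subst hk
      rw [if_pos rfl, word_apply, if_neg h, sgn_zero]; ring
    · rw [if_neg hk]; ring

theorem supp_cent {g : Spor.Co2} (h : ∀ x ∈ R, g * x = x * g) {j : GolayPt} (hj : j ∉ O) (i : GolayPt) (hi : i ≠ j) :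
    ((toCo0 g • e8 j : leechLattice) : GolayPt → ℤ) i = 0 := by
  have h1 := List.all_eq_true.1 chkSep (idx j) (List.mem_range.2 (idx_lt j))
  rw [Bool.or_eq_true] at h1
  rcases h1 with h1 | h1
  · refine absurd (mem_fin.2 ?_) hj
    have h2 : 1 &&& (mO >>> (idx j)) = 1 := Nat.eq_of_beq_eq_true h1
    unfold Nat.testBit
    rw [h2]; rfl
  · have h2 := List.all_eq_true.1 h1 (idx i) (List.mem_range.2 (idx_lt i))
    rw [Bool.or_eq_true, List.any_eq_true] at h2
    rcases h2 with h2 | ⟨m, hm', h2⟩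
    · exact absurd (idx_injective (Nat.eq_of_beq_eq_true h2)) hi
    · have hm := mem_E5 hm'
      have hE := (mem_S32_iff.1 hm).1
      have h3 : toCo0 (ge m) • (toCo0 g • e8 j) = toCo0 g • (toCo0 (ge m) • e8 j) := by
        rw [← mul_smul, ← map_mul, ← h _ (ge_mem_R hm), map_mul, mul_smul]
      have h4 := ge_smul hE (toCo0 g • e8 j) i
      rw [h3, ge_e8 hE, word_apply] at h4
      have h2 : m.testBit (idx i) ≠ m.testBit (idx j) := by
        intro hc
        rw [hc, Bool.xor_self] at h2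
        exact absurd h2 (by simp)
      by_cases hj' : m.testBit (idx j) = true
      · rw [if_pos hj'] at h4
        have hi' : m.testBit (idx i) = false := by
          by_contra hc
          rw [Bool.not_eq_false] at hc
          exact h2 (hc.trans hj'.symm)
        rw [hi'] at h4
        have h5 : toCo0 g • (-(e8 j)) = -(toCo0 g • e8 j) := smul_neg _ _
        rw [h5] at h4
        have h6 : ((-(toCo0 g • e8 j) : leechLattice) : GolayPt → ℤ) i = -((toCo0 g • e8 j : leechLattice) : GolayPt → ℤ) i := rfl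
        rw [h6] at h4
        simp only [Bool.false_eq_true, if_false, sgn_zero, one_mul] at h4
        omega
      · rw [if_neg hj'] at h4
        have hi' : m.testBit (idx i) = true := by
          by_contra hc
          rw [Bool.not_eq_true] at hc hj'
          exact h2 (hc.trans hj'.symm)
        rw [if_pos hi', sgn_one] at h4
        omega

/-- the norm of the image -/
theorem pm_e8 {g : Spor.Co2} (h : ∀ x ∈ R, g * x = x * g) {j : GolayPt} (hj : j ∉ O) :
    toCo0 g • e8 j = e8 j ∨ toCo0 g • e8 j = -(e8 j) := by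
  have h1 := supp_cent h hj
  have h2 : sqNorm ((toCo0 g • e8 j : leechLattice) : GolayPt → ℤ) = 64 := by
    rw [Cfsg.Agent.SporadicA.Co0Mono.sqNorm_smul]
    exact Cfsg.Agent.SporadicA.Co1Simple.sqNorm_e8 j
  have h3 : sqNorm ((toCo0 g • e8 j : leechLattice) : GolayPt → ℤ) =
      ((toCo0 g • e8 j : leechLattice) : GolayPt → ℤ) j ^ 2 := by
    unfold sqNorm
    rw [Finset.sum_eq_single j]
    · intro b _ hb
      rw [h1 b hb]; ring
    · intro hc
      exact absurd (Finset.mem_univ j) hc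
  rw [h3] at h2
  have h4 : ((toCo0 g • e8 j : leechLattice) : GolayPt → ℤ) j = 8 ∨
      ((toCo0 g • e8 j : leechLattice) : GolayPt → ℤ) j = -8 := by
    have h5 : (((toCo0 g • e8 j : leechLattice) : GolayPt → ℤ) j - 8) *
        (((toCo0 g • e8 j : leechLattice) : GolayPt → ℤ) j + 8) = 0 := by linear_combination h2
    rcases mul_eq_zero.1 h5 with h5 | h5
    · left; omega
    · right; omega
  rcases h4 with h4 | h4
  · left
    apply Subtype.ext
    funext k
    rw [e8_coe, Pi.single_apply]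
    by_cases hk : k = j
    · rw [if_pos hk, hk, h4]
    · rw [if_neg hk, h1 k hk]
  · right
    apply Subtype.ext
    funext k
    show _ = -((e8 j : leechLattice) : GolayPt → ℤ) k
    rw [e8_coe, Pi.single_apply]
    by_cases hk : k = j
    · rw [if_pos hk, hk, h4]
    · rw [if_neg hk, h1 k hk]; ring

theorem mem_N_of_cent {g : Spor.Co2} (h : ∀ x ∈ R, g * x = x * g) : toCo0 g ∈ N := by
  have hj : pt 1 ∉ O := by unfold O; decide +kernel
  rcases pm_e8 h hj with h1 | h1
  · exact Co1.OctGen.mem_N_of_smul_e8 h1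
  · have h2 : (signCo0 Cfsg.Agent.SporadicA.Co1Simple.allOne * toCo0 g) • e8 (pt 1) = e8 (pt 1) := by
      rw [mul_smul, h1, Cfsg.Agent.SporadicA.Co1Simple.allOne_smul, neg_neg]
    have h3 := Co1.OctGen.mem_N_of_smul_e8 h2
    have h4 := N.mul_mem (N.inv_mem (sign_mem_N Cfsg.Agent.SporadicA.Co1Simple.allOne)) h3
    rwa [inv_mul_cancel_left] at h4

theorem o1_mem : fin 31554 ∈ octads := by
  apply Cfsg.Agent.SporadicStructure.M24Frame.fin_mem_octads_of_isOct
  decide +kernel

theorem el_one_of_fix {Q : ℕ} (h : ∀ j, j ∉ O → (el Q : Equiv.Perm GolayPt) j = j) : el Q = 1 := by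
  apply Subtype.ext
  refine Cfsg.Agent.SporadicStructure.M24Frame.eq_one_of_fix_frame (el Q).2 o1_mem
    (s := fin 31554) subset_rfl (by rw [octad_card o1_mem]; norm_num) ?_ (p := pt 4) (by decide +kernel)
    (h _ (by unfold O; decide +kernel))
  intro i hi
  apply h
  have : ∀ i : GolayPt, i ∈ fin 31554 → i ∉ O := by unfold O; decide +kernel
  exact this i hi

theorem self_R {g : Spor.Co2} (h : ∀ x ∈ R, g * x = x * g) : g ∈ R := by
  obtain ⟨m, Q, hm, hQ, hlt, rfl⟩ := mono_of_N (mem_N_of_cent h)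
  have h1 : ∀ j, j ∉ O → (el Q : Equiv.Perm GolayPt) j = j := by
    intro j hj
    have h2 : (el Q : Equiv.Perm GolayPt).symm j = j := by
      by_contra hc
      have h3 := mo2_smul hm hQ (e8 j) j
      rw [e8_coe, Pi.single_eq_of_ne hc, mul_zero] at h3
      rcases pm_e8 h hj with h4 | h4
      · rw [h4, e8_coe, Pi.single_eq_same] at h3
        norm_num at h3
      · rw [h4] at h3
        change -((e8 j : leechLattice) : GolayPt → ℤ) j = 0 at h3
        rw [e8_coe, Pi.single_eq_same] at h3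
        norm_num at h3
    exact ((Equiv.symm_apply_eq _).1 h2).symm
  have h2 : Q = idP := by
    apply el_inj (ok_of_okP hQ) ok_idP hlt idP_lt
    rw [el_one_of_fix h1, el_idP]
  subst h2
  change ge m ∈ R
  rcases ge_cent hm h with h3 | h3
  · rw [h3]; exact R.one_mem
  · rw [h3]; exact ge_mem_R mz_mem

/-- **`R` is a large extraspecial subgroup.** -/
theorem large : Cfsg.Agent.Co2Type.Quad.Large R (ge mz) where
  z_mem := ge_mem_R mz_mem
  z_ne := by
    intro h
    have h1 := (mo2_injT iz inE_zero (mem_L22_of_R16 idP_mem) (mem_L22_of_R16 idP_mem) (h.trans mo2_one.symm)).1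
    exact absurd h1 (by decide)
  z_sq := ge_sq iz
  comm_z := fun x hx => z_R hx
  conj_mem := fun g hg x hx => RSub.conj_mem (mem_P.2 hg) hx
  sq := fun x hx => sq_R hx
  comm := fun x hx y hy => comm_R hx hy
  cent := fun x hx h => cent_R hx h
  self := fun g hg h => self_R h

/-! ### the order of `R` -/

theorem coe_R : (R : Set Spor.Co2) = (fun t : ℕ × ℕ => mo2 t.1 t.2) '' ((S32.toFinset ×ˢ R16.toFinset : Finset (ℕ × ℕ)) : Set (ℕ × ℕ)) := by
  ext x
  constructor
  · intro hx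
    obtain ⟨m, Q, hm, hQ, rfl⟩ := exists_of_mem_R hx
    exact ⟨(m, Q), by rw [Finset.mem_coe, Finset.mem_product]; exact ⟨List.mem_toFinset.2 hm, List.mem_toFinset.2 hQ⟩, rfl⟩
  · rintro ⟨⟨m, Q⟩, h, rfl⟩
    rw [Finset.mem_coe, Finset.mem_product] at h
    exact mo2_mem_R (List.mem_toFinset.1 h.1) (List.mem_toFinset.1 h.2)

theorem card_R : Nat.card R = 2 ^ 9 := by
  have h1 : Nat.card R = (R : Set Spor.Co2).ncard := Nat.card_coe_set_eq _
  rw [h1, coe_R, Set.InjOn.ncard_image, Set.ncard_coe_finset, Finset.card_product, List.toFinset_card_of_nodup nodup_S32,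
    List.toFinset_card_of_nodup nodup_R16]
  · rfl
  · rintro ⟨m, Q⟩ h ⟨n, S⟩ h' he
    rw [Finset.mem_coe, Finset.mem_product] at h h'
    have hm := mem_S32_iff.1 (List.mem_toFinset.1 h.1)
    have hn := mem_S32_iff.1 (List.mem_toFinset.1 h'.1)
    obtain ⟨h1, h2⟩ := mo2_injT hm.1 hn.1 (mem_L22_of_R16 (List.mem_toFinset.1 h.2))
      (mem_L22_of_R16 (List.mem_toFinset.1 h'.2)) he
    exact Prod.ext h1 h2

/-! ### weak closure of `z` -/

theorem chkTr : (R16.all fun Q => S32.all fun m => (Nat.beq Q idP && Nat.beq m mz) || !(tA m Q)) = true := by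
  decide +kernel

theorem weakly {x : Spor.Co2} (hx : x ∈ R) (h : IsConj (ge mz) x) : x = ge mz := by
  have h1 := (trA h).2
  obtain ⟨m, Q, hm, hQ, rfl⟩ := exists_of_mem_R hx
  rw [tr_mo2' (mem_S32_iff.1 hm).1 (mem_L22_of_R16 hQ), ← tA_iff] at h1
  have h2 := List.all_eq_true.1 (List.all_eq_true.1 chkTr Q hQ) m hm
  rw [h1, Bool.not_true, Bool.or_false, Bool.and_eq_true] at h2
  rw [Nat.eq_of_beq_eq_true h2.1, Nat.eq_of_beq_eq_true h2.2]
  rfl

end Cfsg.Agent.KFacts.CoTwo.RLarge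

end
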