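import Cfsg.Agent.LeechMat.Words
import Cfsg.Agent.KFacts.Co1.OctGen
import Cfsg.Agent.Co2Type.FactsCo2
set_option linter.all false

-- merged: Cfsg.Agent.KFacts.CoTwo.Data
section

/-!
# Data for the centraliser of the central involution of `Spor.Co2` (helper902)

Packed permutations (`GolayPerm`), masks (`GolayBase`), packed matrix (`LeechMat`).
-/

set_option autoImplicit false

namespace Cfsg.Agent.KFacts.CoTwo.Data

open Cfsg Cfsg.Agent.LeechMat.Orbit Cfsg.Agent.LeechMat.Elements Cfsg.Agent.LeechMat.Words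

/-- `(u, x, y)` with `u = [x, y]`, `u` fixes [23, 0]; images of the index 2 -/
def U0 : List (ℕ × ℕ × ℕ) := [
  (0xbcd911288959cad44aa1851cfb0cc0, 0xba83194ea84ad8f38db0299c415a80,
    0xb8deb959c689d846cd21a951450a00),
  (0xbcc30b0914794cd60c953ad2e92a20, 0xb8d8d12a877953524e2e5a0d0b4820,
    0xbd8b4988907858d30d093aeb1549c0),
  (0xbccc4b0db58c12e408ef2856c54a80, 0xba82990ea58d0c77ce0d431c4b0960,
    0xbaa0d1ce264518e5daa50a48f148e0),
  (0xbd8f050a26abd88a0dc54902b94da0, 0xbcda11a9d45c5267890721615b4980,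
    0xbd90c149e9292aba4c2d3ba261aa00),
  (0xbce2554a8c855a920d0f09dc615960, 0xba82d9c98749aaf45a2e22e0510e80,
    0xba9851c9d5a05e4809a63c52bb4d00)]

/-- `(u, x, y)` with `u = [x, y]`, `u` fixes [23, 0, 2]; images of the index 3 -/
def U1 : List (ℕ × ℕ × ℕ) := [
  (0xbca05b0e26a552b7cd070918e509a0, 0xb8c8954e0e6542d458f4599f1908a0,
    0xbaaacb0e04444af6c827a392698960),
  (0xbd9d49a82782cb1a8ccd7910990980, 0xb8e095588e61d060cea55b62f14a80,
    0xbd8f41498e5c11178c8da98a954c20),
  (0xba8a41c8ef8192c5d9a88bab498820, 0xbcab1b4d1071924588b463da750c20,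
    0xb896f54cc1a1e356c9104b085b0dc0),
  (0xba9f490d8b6a48e0cd11854e6b08a0, 0xbcd6612a013b10568c8fad229959c0,
    0xb8a091ca84445e75d825ab4cc54dc0)]

/-- `(u, x, y)` with `u = [x, y]`, `u` fixes [23, 0, 2, 3]; images of the index 10 -/
def U2 : List (ℕ × ℕ × ℕ) := [
  (0xbda2654cf04bc94449c5ab161189a0, 0xbaa891d8ae5bd0d0ce2461aa790a00,
    0xbce095598d22e8688eaf3b82590900),
  (0xbc9cd5588ba258f34cb181ea118900, 0xbccc1958917d5653aa8c6b91018920,
    0xba9f49daa68a4b00c8ed7310b18880),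
  (0xbc92d9a98f098a7758888ae9518a00, 0xbaa8f90da6604a84cdd53c60bb0880,
    0xb8e909d8357312f328f16956490900)]

/-- `(u, x, y)` with `u = [x, y]`, `u` fixes [23, 0, 2, 3, 10]; images of the index 18 -/
def U3 : List (ℕ × ℕ × ℕ) := [
  (0xbca87b4c2d4452f22a0caaca6189c0, 0xbd8e594da60b1eb48dd0a12a850a20,
    0xbc9a650e077a481759056557498a20),
  (0xbcea79598b71a2d0a9042be8918a00, 0xbca0f50dac31424ada293ba8b98900,
    0xbdab494d013388958d912bced50a00)]

/-- `(u, x, y)` with `u = [x, y]`, `u` fixes [23, 0, 2, 3, 10, 18, 19, 22]; images of the index 1 -/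
def U4 : List (ℕ × ℕ × ℕ) := [
  (0xbd9cb9c90d35607a28b163d2118880, 0xbd9a19c98e4c2b1229e7414cb18a80,
    0xb8e2654c816acf4a89cc415f0b4920),
  (0xbd9069c9cc5c4f07a8956d029188a0, 0xbd96e9c8c145085aa8ef4c58d18a00,
    0xb89019d8a7ab2295a9cf341b41c880),
  (0xbd8e59ca112310e4a96da868f188c0, 0xbda049c8f52b5c80a8cc8a5f418960,
    0xb89ec1d9748391522831324ed94ca0),
  (0xbd8c89c96973ca48aa140d5ac188e0, 0xbda959c9e48ac29729862a0f0189a0,
    0xbcca1958ef6c2b460cc48a5cb12900),
  (0xbd8a79c88f824cb629c1a36b118900, 0xbd8e59ca112310e4a96da868f188c0,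
    0xb8cd0b28e55d03564d2d43c8e90a20),
  (0xbda2f9caa7a218d3282e82c8518920, 0xbda959c9e48ac29729862a0f0189a0,
    0xbc8b054e2da3dc1a8d8759109b08c0),
  (0xbda049c8f52b5c80a8cc8a5f418960, 0xbd82d9c92b6128f82a2531d0e18aa0,
    0xbcd671888c4392f2d9b08983454aa0),
  (0xbd9f19ca85a9921429ab23a0718980, 0xbd8a79c88f824cb629c1a36b118900,
    0xbc88c14e215b60f2a9c645687b0d20),
  (0xbda959c9e48ac29729862a0f0189a0, 0xbda049c8f52b5c80a8cc8a5f418960,
    0xb8991b49267b56ea8e01450e59a880),
  (0xbd8909c8b4385666a9097b235189c0, 0xbda959c9e48ac29729862a0f0189a0,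
    0xb8c2bb29f0291b1a48e64259514dc0),
  (0xbd9899c9a809e352aa9071166189e0, 0xbd8c89c96973ca48aa140d5ac188e0,
    0xb8cb49588e79d66a8830445ac9a920),
  (0xbd96e9c8c145085aa8ef4c58d18a00, 0xbd8a79c88f824cb629c1a36b118900,
    0xbce8d92981794d040d6e89135b08e0),
  (0xbd92c9c826695f43aaa45c1c818a20, 0xbd8e59ca112310e4a96da868f188c0,
    0xbc91198c8d0968c4d8ee7d4d012960),
  (0xbd9a19c98e4c2b1229e7414cb18a80, 0xbd9069c9cc5c4f07a8956d029188a0,
    0xbc9c555aa849e0d58dec8d02414cc0),
  (0xbd82d9c92b6128f82a2531d0e18aa0, 0xbd8c89c96973ca48aa140d5ac188e0,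
    0xbc8e954cc88c1c40d9ab2d58f10e80)]

/-- `(b, n, Q)` with `b = n + Q n` -/
def EN : List (ℕ × ℕ × ℕ) := [
  (4202192, 1301924, 0xbc98e1a8a8a44e9809667848d9daa0),
  (2101096, 7658692, 0xb88a750cd0430344cab173d649d9a0),
  (1050548, 2408162, 0xbcdb0548e5639eba8a910a089b0cc0),
  (525274, 10558, 0xbc90455a2e0c0ec30e8dabd2514d60),
  (267634, 8216682, 0xba9b41d8d53c1c958a2f2b1019c880),
  (138790, 2702848, 0xbda2e10df55b1a184ca9a10c8548e0),
  (72588, 1307802, 0xbcead959217b888808e58999450d60),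
  (36294, 2624690, 0xba8d010d6e3a5acace8144485959e0),
  (21116, 115766, 0xbda8d988ec326a58a90e5920f90c20),
  (10558, 8114118, 0xbdaa9189f16996884c8ea1581928e0)]

/-- interchanges the points 23 and 0, fixes 2, 3 -/
def sQ : ℕ := 25525039304699397647261516727159255

/-- matrix (times 8, columns) -/
def MP : List ℕ := [
  0xa42108421084210842108421063214, 0x8421084210a4290a4210a421084210, 0x6421084210842108421084210a3214, 0xa421084210842108421084210a320c, 0x8420c8420c84214842108521084210, 0x8421084210a4190a42106421084210, 0x8419084210842108428c8421484210, 0x842108429085210842108419084190, 0x8420c8421484214842108321084210, 0x8420c842148420c842108521084210, 0x85210a321084210832108421084210, 0x842108419085210842108419084290, 0x841908421084210841948421484210, 0x842108429085210842108429084290, 0x842108421064290a42106421084210, 0x842108429083210842108419084290, 0x841908421084210842948420c84210, 0x8421084210a4290642106421084210, 0x85210a521084210852108421084210, 0x83210a521084210832108421084210,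 0x842908421084210842948421484210, 0x842148421484214842108521084210, 0x852106521084210832108421084210, 0xa421084210842108421084210a5214]

/-- images of the lattice generators -/
def YP : List ℕ := [
  0xa42108421084210842108421084214, 0x942108421094250942109421094a12, 0x8421084210842108421084210a4214, 0xa421084210842108421084210a4210, 0x9420e8420e842128421084a1094a12, 0x9421084210941d0942107421094a12, 0x941d084210842108424e8421294a12, 0x942108425084a1084210841d0949d2, 0x9420e84212842128421083a1094a12, 0x9420e842128420e8421084a1094a12, 0x94a1093a108421083a108421094a12, 0x94210841d084a1084210841d094a52, 0x941d08421084210841d28421294a12, 0x942108425084a10842108425094a52, 0x942108421074250942107421094a12, 0x942108425083a1084210841d094a52, 0x941d08421084210842528420e94a12, 0x942108421094250742107421094a12, 0x94a1094a108421084a108421094a12, 0x93a1094a108421083a108421094a12, 0x942508421084210842528421294a12, 0x9421284212842128421084a1094a12, 0x94a1074a108421083a108421094a12,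 0xa421084210842108421084210a5214, 0x7c5ef8c6318c6318be317c5f17b62f, 0x949d084a1084250842127421084212, 0x841d084a508425093a128421084250, 0x84a1084a5084210842128421294252, 0x8c5f18ce318c6317bdf17c6318be2f, 0x8bdef8c62f8c6317be337c6318c631, 0x8c6318c6318c6318c6316c6318c631, 0x8c5f18ce317be318be2f7c5f18c631, 0x8421094a508425084212741d284210, 0x8421094a5284212842528421084250, 0x8421084a128425083a5274a1084210, 0x8c5f18be317be318be337c5f18c631, 0x8c5f17c6318c6317be317c5ef8c671]

theorem rep_P : ∃ g : Co0, Rep 8 MP g := exists_rep (ys := YP) (by decide +kernel)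

end Cfsg.Agent.KFacts.CoTwo.Data

end

-- merged: Cfsg.Agent.KFacts.CoTwo.Base
section

/-!
# Elements of `Spor.Co2` fixing a vector of the frame (helper902)

`mono_of_fix`: an element of `Spor.Co2` fixing `8 e_∞` is monomial.
`perm_mem`: a subgroup of `M24` containing the commutators `U0 .. U4` contains every element that preserves the octad
`O` and fixes the points `∞`, `0`.
-/

set_option autoImplicit false
set_option linter.dupNamespace false

namespace Cfsg.Agent.KFacts.CoTwo.Base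

open Cfsg Cfsg.Agent.SporadicA.GolayBase Cfsg.Agent.SporadicA.GolayPerm
open Cfsg.Agent.SporadicStructure.M24El Cfsg.Agent.SporadicA.Co0Mono
open Cfsg.Agent.Co2Type.Mono Cfsg.Agent.Co2Type.TGroup Cfsg.Agent.Co2Type.TData Cfsg.Agent.Co2Type.FactsD
open Cfsg.Agent.SporadicStructure.Co0Base (e8 e8_coe)
open Cfsg.Agent.SporadicA.Co1Simple (exists_sign_perm)
open scoped Pointwise

/-! ### points -/

theorem idx_none : idx none = 23 := rfl

theorem pt23 : pt 23 = none := by decide

theorem pt0 : pt 0 = some 0 := by decide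

/-- `8 e_∞ + 8 e_0 = 2 v` -/
theorem e8_add : e8 none + e8 (some 0) = (2 : ℕ) • Spor.leechU := by
  apply Subtype.ext
  funext p
  show ((e8 none : leechLattice) : GolayPt → ℤ) p + ((e8 (some 0) : leechLattice) : GolayPt → ℤ) p =
    ((2 • Spor.leechU : leechLattice) : GolayPt → ℤ) p
  have h : ((2 • Spor.leechU : leechLattice) : GolayPt → ℤ) p = 2 * ((Spor.leechU : leechLattice) : GolayPt → ℤ) p := by
    show (2 • ((Spor.leechU : leechLattice) : GolayPt → ℤ)) p = _
    rw [Pi.smul_apply]; simp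
  rw [h, leechU_apply, e8_coe, e8_coe]
  revert p
  decide

/-! ### monomial elements -/

theorem toCo0_smul_leechU (g : Spor.Co2) : toCo0 g • Spor.leechU = Spor.leechU := g.2.2

/-- An element fixing `8 e_∞` is monomial. -/
theorem mono_of_fix {g : Spor.Co2} (h : toCo0 g • e8 none = e8 none) :
    ∃ m Q, inE m = true ∧ okP Q = true ∧ Q < 2 ^ 120 ∧ papp Q 0 = 0 ∧ papp Q 23 = 23 ∧ g = mo2 m Q := by
  have h0 : toCo0 g • e8 (some 0) = e8 (some 0) := by
    have h1 : toCo0 g • (e8 none + e8 (some 0)) = e8 none + e8 (some 0) := by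
      rw [e8_add, smul_nsmul, toCo0_smul_leechU]
    rw [smul_add, h] at h1
    exact add_left_cancel h1
  obtain ⟨c, σ, hcσ⟩ := exists_sign_perm (Co1.OctGen.mem_N_of_smul_e8 h)
  obtain ⟨m, hm, rfl⟩ := exists_cd c
  obtain ⟨Q, hQ, hlt, rfl⟩ := exists_el σ
  have hg : toCo0 g = mo m Q := hcσ
  have key : ∀ i : GolayPt, toCo0 g • e8 i = e8 i →
      (el Q : Equiv.Perm GolayPt) i = i ∧ m.testBit (idx i) = false := by
    intro i hi
    have h1 := congrArg (fun x : leechLattice => (x : GolayPt → ℤ) i) hi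
    change ((toCo0 g • e8 i : leechLattice) : GolayPt → ℤ) i = ((e8 i : leechLattice) : GolayPt → ℤ) i at h1
    rw [hg, mo_smul_e8 hm, e8_coe, Pi.single_eq_same] at h1
    by_cases h2 : (el Q : Equiv.Perm GolayPt) i = i
    · refine ⟨h2, ?_⟩
      rw [if_pos h2] at h1
      by_contra h3
      rw [Bool.not_eq_false] at h3
      rw [if_pos h3] at h1
      norm_num at h1
    · rw [if_neg h2] at h1
      norm_num at h1
  obtain ⟨k1, k2⟩ := key none h
  obtain ⟨k3, k4⟩ := key (some 0) h0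
  have hp := (ok_iff.1 hQ).1
  have e23 : papp Q 23 = 23 := by
    have h1 := congrArg idx k1
    rw [coe_el hQ, idx_permOf] at h1
    exact h1
  have e0 : papp Q 0 = 0 := by
    have h1 := congrArg idx k3
    rw [coe_el hQ, idx_permOf] at h1
    exact h1
  have hP : okP Q = true := okP_iff.2 ⟨hQ, Or.inl ⟨e0, e23⟩⟩
  have hE : inE m = true := inE_iff.2 ⟨hm, k4, k2⟩
  refine ⟨m, Q, hE, hP, hlt, e0, e23, ?_⟩
  apply toCo0_injective
  rw [hg, toCo0_mo2 hE hP]

/-! ### permutations preserving the octad and fixing two points -/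

/-- the mask of the octad `O` -/
def mO : ℕ := 13370381

theorem mO_eq : mO = Nat.xor 16777215 mz := by decide

/-- the octad `O` -/
def O : Finset GolayPt := fin mO

theorem O_mem : O ∈ octads := by
  apply Cfsg.Agent.SporadicStructure.M24Frame.fin_mem_octads_of_isOct
  decide +kernel

/-- `σ` preserves `O` and fixes the points of the list `l` (indices). -/
def Fx (l : List ℕ) (σ : M24) : Prop :=
  (∀ p ∈ O, (σ : Equiv.Perm GolayPt) p ∈ O) ∧ ∀ i ∈ l, (σ : Equiv.Perm GolayPt) (pt i) = pt i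

theorem Fx.mul {l : List ℕ} {σ τ : M24} (h1 : Fx l σ) (h2 : Fx l τ) : Fx l (σ * τ) :=
  ⟨fun p hp => h1.1 _ (h2.1 p hp), fun i hi => by
    show (σ : Equiv.Perm GolayPt) ((τ : Equiv.Perm GolayPt) (pt i)) = _
    rw [h2.2 i hi, h1.2 i hi]⟩

theorem Fx.inv {l : List ℕ} {σ : M24} (h : Fx l σ) : Fx l σ⁻¹ := by
  refine ⟨fun p hp => ?_, fun i hi => ?_⟩
  · have h1 : O.image (σ : Equiv.Perm GolayPt) = O := by
      apply Finset.eq_of_subset_of_card_le
      · intro q hq
        obtain ⟨r, hr, rfl⟩ := Finset.mem_image.1 hq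
        exact h.1 r hr
      · rw [Finset.card_image_of_injective _ (σ : Equiv.Perm GolayPt).injective]
    rw [← h1] at hp
    obtain ⟨r, hr, rfl⟩ := Finset.mem_image.1 hp
    show (σ : Equiv.Perm GolayPt).symm _ ∈ O
    rw [Equiv.symm_apply_apply]
    exact hr
  · show (σ : Equiv.Perm GolayPt)⁻¹ (pt i) = pt i
    rw [Equiv.Perm.inv_eq_iff_eq, h.2 i hi]

/-- test for a packed permutation: in `M24`, preserves the octad, fixes `l` -/
def fxB (l : List ℕ) (Q : ℕ) : Bool :=
  ok Q && Nat.beq (pimg Q mO) mO && l.all fun i => Nat.blt i 24 && Nat.beq (papp Q i) i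

theorem fx_of {l : List ℕ} {Q : ℕ} (h : fxB l Q = true) : ok Q = true ∧ Fx l (el Q) := by
  unfold fxB at h
  rw [Bool.and_eq_true, Bool.and_eq_true, List.all_eq_true] at h
  obtain ⟨⟨h1, h2⟩, h3⟩ := h
  refine ⟨h1, fun p hp => ?_, fun i hi => ?_⟩
  · rw [coe_el h1]
    have h4 := smul_fin (ok_iff.1 h1).1 mO
    rw [Nat.eq_of_beq_eq_true h2] at h4
    have h5 : (permOf Q (ok_iff.1 h1).1) p ∈ (permOf Q (ok_iff.1 h1).1) • fin mO := (mem_smul_iff _ _ _).2 hp
    rw [h4] at h5
    exact h5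
  · have h4 := h3 i hi
    rw [Bool.and_eq_true, Nat.blt_eq] at h4
    rw [coe_el h1]
    apply idx_injective
    rw [idx_permOf, idx_pt h4.1]
    exact Nat.eq_of_beq_eq_true h4.2

/-- test for a transversal: `(u, x, y)` -/
def trB (l l0 : List ℕ) (a : ℕ) (A : List ℕ) (U : List (ℕ × ℕ × ℕ)) : Bool :=
  (U.all fun t => fxB l t.1 && fxB l0 t.2.1 && fxB l0 t.2.2 &&
    Nat.beq (pcomp t.1 (pcomp t.2.2 t.2.1)) (pcomp t.2.1 t.2.2)) &&
  A.all fun b => Nat.beq b a || U.any fun t => Nat.beq (papp t.1 a) b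

open scoped commutatorElement in
/-- One level. -/
theorem level {H : Subgroup M24} {l0 : List ℕ} (hH : ∀ σ τ : M24, Fx l0 σ → Fx l0 τ → ⁅σ, τ⁆ ∈ H)
    {l : List ℕ} {a : ℕ} (ha : a < 24) {A : List ℕ} {U : List (ℕ × ℕ × ℕ)} (h : trB l l0 a A U = true)
    (hA : ∀ σ : M24, Fx l σ → idx ((σ : Equiv.Perm GolayPt) (pt a)) ∈ A)
    (hr : ∀ σ : M24, Fx (a :: l) σ → σ ∈ H) : ∀ σ : M24, Fx l σ → σ ∈ H := by
  intro σ hσ
  unfold trB at h
  rw [Bool.and_eq_true, List.all_eq_true, List.all_eq_true] at h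
  obtain ⟨h1, h2⟩ := h
  have h3 := h2 _ (hA σ hσ)
  rw [Bool.or_eq_true, List.any_eq_true] at h3
  rcases h3 with h3 | ⟨t, ht, h3⟩
  · apply hr
    refine ⟨hσ.1, fun i hi => ?_⟩
    rcases List.mem_cons.1 hi with rfl | hi
    · apply idx_injective
      rw [Nat.eq_of_beq_eq_true h3, idx_pt ha]
    · exact hσ.2 i hi
  · have h4 := h1 t ht
    rw [Bool.and_eq_true, Bool.and_eq_true, Bool.and_eq_true] at h4
    obtain ⟨⟨⟨h5, h6⟩, h7⟩, h8⟩ := h4
    obtain ⟨o1, f1⟩ := fx_of h5
    obtain ⟨o2, f2⟩ := fx_of h6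
    obtain ⟨o3, f3⟩ := fx_of h7
    have h9 : el t.1 = ⁅el t.2.1, el t.2.2⁆ := by
      have h10 := congrArg el (Nat.eq_of_beq_eq_true h8)
      rw [el_pcomp o1 (ok_pcomp o3 o2), el_pcomp o3 o2, el_pcomp o2 o3] at h10
      rw [commutatorElement_def, ← mul_assoc] at *
      rw [eq_mul_inv_iff_mul_eq, eq_mul_inv_iff_mul_eq]
      simpa [mul_assoc] using h10
    have h10 : el t.1 ∈ H := by rw [h9]; exact hH _ _ f2 f3
    have h11 : (el t.1)⁻¹ * σ ∈ H := by
      apply hr
      refine ⟨(f1.inv.mul hσ).1, fun i hi => ?_⟩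
      rcases List.mem_cons.1 hi with rfl | hi
      · show (el t.1 : Equiv.Perm GolayPt)⁻¹ ((σ : Equiv.Perm GolayPt) (pt i)) = pt i
        rw [Equiv.Perm.inv_eq_iff_eq]
        apply idx_injective
        rw [coe_el o1, idx_permOf, idx_pt ha]
        exact (Nat.eq_of_beq_eq_true h3).symm
      · exact (f1.inv.mul hσ).2 i hi
    have := H.mul_mem h10 h11
    rwa [mul_inv_cancel_left] at this

end Cfsg.Agent.KFacts.CoTwo.Base

end
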